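import Mathlib.RingTheory.RegularLocalRing.Defs
import Mathlib.RingTheory.KrullDimension.Regular
import Mathlib.RingTheory.Ideal.KrullsHeightTheorem
import Mathlib.RingTheory.Ideal.MinimalPrime.Noetherian
import Mathlib.RingTheory.Regular.RegularSequence
import Mathlib.RingTheory.Nakayama

/-!
Regular local rings: quotient by an element outside the square of the maximal ideal, and the
domain property.
-/

universe u

namespace Groth.Agent.RegLoc6

open IsLocalRing Submodule

variable {R : Type u} [CommRing R]

section Local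

variable [IsLocalRing R]

theorem nontrivial_quot_span_singleton {x : R} (hx : x ∈ maximalIdeal R) :
    Nontrivial (R ⧸ Ideal.span {x}) :=
  Ideal.Quotient.nontrivial_iff.mpr fun h => by
    rw [Ideal.span_singleton_eq_top] at h
    exact hx h

theorem isLocalRing_quot {x : R} (hx : x ∈ maximalIdeal R) :
    IsLocalRing (R ⧸ Ideal.span {x}) :=
  haveI := nontrivial_quot_span_singleton hx
  IsLocalRing.of_surjective' (Ideal.Quotient.mk _) Ideal.Quotient.mk_surjective

theorem map_maximalIdeal_quot (I : Ideal R) [IsLocalRing (R ⧸ I)] :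
    (maximalIdeal R).map (Ideal.Quotient.mk I) = maximalIdeal (R ⧸ I) := by
  have hle : I ≤ maximalIdeal R := IsLocalRing.le_maximalIdeal fun h => by
    subst h
    exact zero_ne_one (α := R ⧸ (⊤ : Ideal R)) (Subsingleton.elim _ _)
  have hne : (maximalIdeal R).map (Ideal.Quotient.mk I) ≠ ⊤ := by
    intro h
    have := congrArg (Ideal.comap (Ideal.Quotient.mk I)) h
    rw [Ideal.comap_map_of_surjective _ Ideal.Quotient.mk_surjective, Ideal.comap_top] at this
    refine (maximalIdeal.isMaximal R).ne_top (top_le_iff.mp (this ▸ sup_le le_rfl ?_))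
    rw [← RingHom.ker_eq_comap_bot, Ideal.mk_ker]
    exact hle
  exact IsLocalRing.eq_maximalIdeal
    ((Ideal.map_eq_top_or_isMaximal_of_surjective _ Ideal.Quotient.mk_surjective
      (maximalIdeal.isMaximal R)).resolve_left hne)

/-- Exchange lemma for generators of the maximal ideal. -/
theorem exists_generators_insert [IsNoetherianRing R] {x : R} (hx : x ∈ maximalIdeal R)
    (hx2 : x ∉ maximalIdeal R ^ 2) :
    ∃ t : Finset R, maximalIdeal R = Ideal.span (insert x (t : Set R)) ∧
      t.card + 1 ≤ (maximalIdeal R).spanFinrank := by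
  classical
  have fg := (maximalIdeal R).fg_of_isNoetherianRing
  have fin := Submodule.FG.finite_generators fg
  let s := fin.toFinset
  have hs : Ideal.span (s : Set R) = maximalIdeal R := by
    simpa [s, Ideal.span] using (maximalIdeal R).span_generators
  have hx' : x ∈ Submodule.span R (s : Set R) := by
    show x ∈ Ideal.span (s : Set R)
    rw [hs]; exact hx
  obtain ⟨a, -, ha⟩ := Submodule.mem_span_finset.mp hx'
  obtain ⟨g, hg, hgu⟩ : ∃ g ∈ s, a g ∉ maximalIdeal R := by
    by_contra! h
    refine hx2 (ha ▸ Ideal.sum_mem _ fun g hg => ?_)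
    rw [sq, smul_eq_mul]
    exact Ideal.mul_mem_mul (h g hg) (hs ▸ Ideal.subset_span hg)
  refine ⟨s.erase g, le_antisymm ?_ ?_, ?_⟩
  · rw [← hs, Ideal.span_le]
    intro y hy
    by_cases hyg : y = g
    · subst hyg
      obtain ⟨v, hv⟩ := IsLocalRing.notMem_maximalIdeal.mp hgu
      rw [← Finset.sum_erase_add s _ hg, smul_eq_mul (a y), ← hv] at ha
      have h' : ↑v⁻¹ * (x - ∑ i ∈ s.erase y, a i • i) ∈
          Ideal.span (insert x (↑(s.erase y) : Set R)) := by
        refine Ideal.mul_mem_left _ _ (sub_mem (Ideal.subset_span (Set.mem_insert _ _))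
          (Ideal.sum_mem _ fun i hi => ?_))
        exact Submodule.smul_mem _ _ (Ideal.subset_span (Set.mem_insert_of_mem _ hi))
      have heq : ↑v⁻¹ * (x - ∑ i ∈ s.erase y, a i • i) = y := by
        rw [← ha, add_sub_cancel_left, Units.inv_mul_cancel_left]
      rw [heq] at h'
      exact h'
    · exact Ideal.subset_span (Set.mem_insert_of_mem _ (Finset.mem_erase.mpr ⟨hyg, hy⟩))
  · rw [Ideal.span_le, Set.insert_subset_iff]
    exact ⟨hx, fun y hy => hs ▸ Ideal.subset_span (Finset.mem_of_mem_erase hy)⟩
  · rw [Finset.card_erase_add_one hg, ← Submodule.FG.generators_ncard fg,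
      Set.ncard_eq_toFinset_card _ fin]

theorem spanFinrank_quot_le [IsNoetherianRing R] {x : R} (hx : x ∈ maximalIdeal R)
    (hx2 : x ∉ maximalIdeal R ^ 2) [IsLocalRing (R ⧸ Ideal.span {x})] :
    (maximalIdeal (R ⧸ Ideal.span {x})).spanFinrank + 1 ≤ (maximalIdeal R).spanFinrank := by
  classical
  obtain ⟨t, ht, hcard⟩ := exists_generators_insert hx hx2
  refine le_trans (Nat.add_le_add_right ?_ 1) hcard
  rw [← map_maximalIdeal_quot, ht, Ideal.map_span, Set.image_insert_eq,
    Ideal.Quotient.eq_zero_iff_mem.mpr (Ideal.mem_span_singleton_self x)]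
  have : Ideal.span (insert 0 ((Ideal.Quotient.mk (Ideal.span {x})) '' (t : Set R))) =
      Submodule.span (R ⧸ Ideal.span {x}) ((Ideal.Quotient.mk (Ideal.span {x})) '' (t : Set R)) :=
    Submodule.span_insert_zero
  rw [this]
  exact (Submodule.spanFinrank_span_le_ncard_of_finite (t.finite_toSet.image _)).trans
    ((Set.ncard_image_le t.finite_toSet).trans (Set.ncard_coe_finset t).le)

theorem spanFinrank_le_quot [IsNoetherianRing R] {x : R} (hx : x ∈ maximalIdeal R)
    [IsLocalRing (R ⧸ Ideal.span {x})] :
    (maximalIdeal R).spanFinrank ≤ (maximalIdeal (R ⧸ Ideal.span {x})).spanFinrank + 1 := by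
  classical
  have fg := (maximalIdeal (R ⧸ Ideal.span {x})).fg_of_isNoetherianRing
  have fin := Submodule.FG.finite_generators fg
  let t : Set R := Function.surjInv (Ideal.Quotient.mk_surjective (I := Ideal.span {x})) ''
    (maximalIdeal (R ⧸ Ideal.span {x})).generators
  have htf : t.Finite := fin.image _
  have hm : maximalIdeal R = Ideal.span (insert x t) := by
    have himg : Ideal.Quotient.mk (Ideal.span {x}) '' t =
        (maximalIdeal (R ⧸ Ideal.span {x})).generators := by
      simp only [t, Set.image_image, Function.surjInv_eq, Set.image_id']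
    have h1 : (Ideal.span t).map (Ideal.Quotient.mk (Ideal.span {x})) =
        (maximalIdeal R).map (Ideal.Quotient.mk (Ideal.span {x})) := by
      rw [Ideal.map_span, himg, map_maximalIdeal_quot]
      exact (maximalIdeal (R ⧸ Ideal.span {x})).span_generators
    have h2 := congrArg (Ideal.comap (Ideal.Quotient.mk (Ideal.span {x}))) h1
    rw [Ideal.comap_map_of_surjective _ Ideal.Quotient.mk_surjective,
      Ideal.comap_map_of_surjective _ Ideal.Quotient.mk_surjective, ← RingHom.ker_eq_comap_bot,
      Ideal.mk_ker, sup_eq_left.mpr ((Ideal.span_singleton_le_iff_mem _).mpr hx)] at h2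
    rw [← h2, Ideal.span_insert, sup_comm]
  rw [hm]
  refine (Submodule.spanFinrank_span_le_ncard_of_finite (htf.insert x)).trans
    ((Set.ncard_insert_le _ _).trans (Nat.add_le_add_right ?_ 1))
  exact (Set.ncard_image_le fin).trans (Submodule.FG.generators_ncard fg).le

theorem isField_of_spanFinrank_eq_zero [IsNoetherianRing R]
    (h : (maximalIdeal R).spanFinrank = 0) : IsField R := by
  rw [IsLocalRing.isField_iff_maximalIdeal_eq]
  exact (Submodule.spanFinrank_eq_zero_iff_eq_bot (maximalIdeal R).fg_of_isNoetherianRing).mp h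

theorem maximalIdeal_sq_ne [IsNoetherianRing R] (h : ¬ IsField R) :
    ¬ maximalIdeal R ≤ maximalIdeal R ^ 2 := by
  intro hle
  refine h (IsLocalRing.isField_iff_maximalIdeal_eq.mpr ?_)
  refine Submodule.eq_bot_of_le_smul_of_le_jacobson_bot (maximalIdeal R) (maximalIdeal R)
    (maximalIdeal R).fg_of_isNoetherianRing ?_ (IsLocalRing.maximalIdeal_le_jacobson _)
  rwa [smul_eq_mul, ← sq]

/-- Regularity lifts from the quotient by a regular element. -/
theorem of_quotient [IsNoetherianRing R] {x : R} (hx : x ∈ maximalIdeal R)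
    (hreg : IsSMulRegular R x) [IsRegularLocalRing (R ⧸ Ideal.span {x})] :
    IsRegularLocalRing R := by
  have h1 : (((maximalIdeal R).spanFinrank : WithBot ℕ∞)) ≤
      ((maximalIdeal (R ⧸ Ideal.span {x})).spanFinrank : WithBot ℕ∞) + 1 := by
    exact_mod_cast spanFinrank_le_quot hx
  rw [(isRegularLocalRing_iff (R ⧸ Ideal.span {x})).mp inferInstance,
    ringKrullDim_quotient_span_singleton_succ_eq_ringKrullDim hreg hx] at h1
  exact .of_spanFinrank_maximalIdeal_le _ h1

end Local

section Regular

variable [IsRegularLocalRing R]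

theorem isRegularLocalRing_quot_and {x : R} (hx : x ∈ maximalIdeal R)
    (hx2 : x ∉ maximalIdeal R ^ 2) :
    IsRegularLocalRing (R ⧸ Ideal.span {x}) ∧
      ringKrullDim (R ⧸ Ideal.span {x}) + 1 = ringKrullDim R := by
  haveI := isLocalRing_quot hx
  have h1 := spanFinrank_quot_le hx hx2
  have hR := (isRegularLocalRing_iff R).mp ‹_›
  have h2 : ringKrullDim R ≤ ringKrullDim (R ⧸ Ideal.span {x}) + 1 := by
    simpa using ringKrullDim_le_ringKrullDim_quotient_add_encard {x}
      (by simpa [IsLocalRing.ringJacobson_eq_maximalIdeal] using hx)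
  have h3 := ringKrullDim_le_spanFinrank_maximalIdeal (R ⧸ Ideal.span {x})
  have h1' : (((maximalIdeal (R ⧸ Ideal.span {x})).spanFinrank : WithBot ℕ∞)) + 1 ≤
      ((maximalIdeal R).spanFinrank : WithBot ℕ∞) := by exact_mod_cast h1
  have hle : (((maximalIdeal (R ⧸ Ideal.span {x})).spanFinrank : WithBot ℕ∞)) + 1 ≤
      ringKrullDim (R ⧸ Ideal.span {x}) + 1 := h1'.trans (hR.trans_le h2)
  refine ⟨.of_spanFinrank_maximalIdeal_le _ (ENat.WithBot.add_le_add_one_right_iff.mp hle), ?_⟩
  exact le_antisymm (((add_le_add_left h3 1).trans h1').trans hR.le) h2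

end Regular

theorem isDomain_aux : ∀ (n : ℕ) (R : Type u) [CommRing R] [IsRegularLocalRing R],
    (maximalIdeal R).spanFinrank ≤ n → IsDomain R := by
  intro n
  induction n with
  | zero =>
    intro R _ _ h
    exact (isField_of_spanFinrank_eq_zero (Nat.le_zero.mp h)).isDomain
  | succ n ih =>
    intro R _ _ h
    classical
    by_cases hf : IsField R
    · exact hf.isDomain
    have hmne : ∀ q ∈ minimalPrimes R, ¬ maximalIdeal R ≤ q := by
      intro q hq hle
      haveI := Ideal.minimalPrimes_isPrime hq
      have hqm : q = maximalIdeal R :=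
        le_antisymm (IsLocalRing.le_maximalIdeal Ideal.IsPrime.ne_top') hle
      have h0 : (maximalIdeal R).height = 0 := Ideal.height_eq_zero_iff.mpr (hqm ▸ hq)
      have := maximalIdeal_height_eq_ringKrullDim (R := R)
      rw [h0, ← (isRegularLocalRing_iff R).mp ‹_›] at this
      exact hf (isField_of_spanFinrank_eq_zero (by exact_mod_cast this.symm))
    obtain ⟨x, hx, hx'⟩ : ∃ x ∈ maximalIdeal R, x ∉ maximalIdeal R ^ 2 ∧
        ∀ q ∈ minimalPrimes R, x ∉ q := by
      by_contra! hc
      let fs : Finset (Ideal R) :=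
        insert (maximalIdeal R ^ 2) (minimalPrimes.finite_of_isNoetherianRing R).toFinset
      have hsub : (maximalIdeal R : Set R) ⊆ ⋃ p ∈ (fs : Set (Ideal R)), (p : Set R) := by
        intro x hx
        by_cases h2 : x ∈ maximalIdeal R ^ 2
        · exact Set.mem_biUnion (show maximalIdeal R ^ 2 ∈ (fs : Set (Ideal R)) by simp [fs]) h2
        · obtain ⟨q, hq, hxq⟩ := hc x hx h2
          exact Set.mem_biUnion (show q ∈ (fs : Set (Ideal R)) by simp [fs, hq]) hxq
      obtain ⟨p, hp, hle⟩ := (Ideal.subset_union_prime (maximalIdeal R ^ 2) (maximalIdeal R ^ 2)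
        (fun p hp hne _ => by
          rcases Finset.mem_insert.mp hp with h' | h'
          · exact absurd h' hne
          · exact Ideal.minimalPrimes_isPrime ((Set.Finite.mem_toFinset _).mp h'))).mp hsub
      rcases Finset.mem_insert.mp hp with rfl | h'
      · exact maximalIdeal_sq_ne hf hle
      · exact hmne p ((Set.Finite.mem_toFinset _).mp h') hle
    haveI := isLocalRing_quot hx
    haveI := (isRegularLocalRing_quot_and hx hx'.1).1
    haveI := ih (R ⧸ Ideal.span {x}) (by have := spanFinrank_quot_le hx hx'.1; omega)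
    have hP : (Ideal.span {x}).IsPrime := (Ideal.Quotient.isDomain_iff_prime _).mp inferInstance
    obtain ⟨q, hq, hqle⟩ := Ideal.exists_minimalPrimes_le (bot_le : (⊥ : Ideal R) ≤ Ideal.span {x})
    haveI := Ideal.minimalPrimes_isPrime hq
    have hxq : x ∉ q := hx'.2 q hq
    have hq0 : q = ⊥ := by
      refine Submodule.eq_bot_of_le_smul_of_le_jacobson_bot (maximalIdeal R) q
        q.fg_of_isNoetherianRing (fun y hy => ?_) (IsLocalRing.maximalIdeal_le_jacobson _)
      obtain ⟨a, rfl⟩ := Ideal.mem_span_singleton.mp (hqle hy)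
      have ha : a ∈ q := ((Ideal.IsPrime.mem_or_mem ‹q.IsPrime› hy).resolve_left hxq)
      exact Submodule.smul_mem_smul hx ha
    haveI : (⊥ : Ideal R).IsPrime := hq0 ▸ inferInstance
    exact IsDomain.of_bot_isPrime R

/-- A regular local ring is a domain. -/
theorem isDomain_of_isRegularLocalRing (R : Type u) [CommRing R] [IsRegularLocalRing R] :
    IsDomain R :=
  isDomain_aux _ R le_rfl

theorem isSMulRegular_of_notMem_sq [IsRegularLocalRing R] {x : R}
    (hx2 : x ∉ maximalIdeal R ^ 2) : IsSMulRegular R x := by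
  haveI := isDomain_of_isRegularLocalRing R
  refine isSMulRegular_iff_right_eq_zero_of_smul.mpr fun y hy => ?_
  exact (mul_eq_zero.mp hy).resolve_left fun h => hx2 (h ▸ Submodule.zero_mem _)

end Groth.Agent.RegLoc6
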