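import Groth.Agent.RegLoc6.Serre
import Mathlib.RingTheory.Flat.Equalizer
import Mathlib.RingTheory.Flat.FaithfullyFlat.Algebra
import Mathlib.RingTheory.Flat.Stability

/-!
Regularity descends along flat local homomorphisms.
-/

universe u

namespace Groth.Agent.RegLoc6

open IsLocalRing TensorProduct

variable {A B : Type u} [CommRing A] [CommRing B] [Algebra A B]

theorem pdLE_of_baseChange [IsLocalRing A] [IsNoetherianRing A] [Module.FaithfullyFlat A B] :
    ∀ (n : ℕ) (M : Type u) [AddCommGroup M] [Module A M] [Module.Finite A M],
      PdLE B n (B ⊗[A] M) → PdLE A n M := by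
  intro n
  induction n with
  | zero =>
    intro M _ _ _ h
    haveI : Module.Projective B (B ⊗[A] M) := pdLE_zero_iff.mp h
    haveI : Module.Flat A M := Module.Flat.of_flat_tensorProduct A M B
    haveI : Module.Free A M := Module.free_of_flat_of_isLocalRing
    exact pdLE_of_projective 0
  | succ n ih =>
    intro M _ _ _ h
    obtain ⟨k, g, hg⟩ := exists_presentation (R := A) (M := M)
    rw [pdLE_succ_iff g hg]
    refine ih _ (pdLE_of_equiv (M := LinearMap.ker (AlgebraTensorModule.lTensor B B g))
      (LinearMap.tensorKerEquiv B B g).symm ?_)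
    exact pdLE_ker (AlgebraTensorModule.lTensor B B g) (fun y => LinearMap.lTensor_surjective B hg y) h (pdLE_of_projective n)

/-- If `A → B` is a faithfully flat map of local rings and `B` is regular, so is `A`. -/
theorem isRegularLocalRing_of_faithfullyFlat [IsLocalRing A] [IsNoetherianRing A]
    [IsRegularLocalRing B] [Module.FaithfullyFlat A B] : IsRegularLocalRing A :=
  isRegularLocalRing_of_pdLE
    (pdLE_of_baseChange _ _ (pdLE_of_isRegularLocalRing B (B ⊗[A] (A ⧸ maximalIdeal A))))

/-- If `A → B` is a flat local map of Noetherian local rings and `B` is regular, so is `A`. -/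
theorem isRegularLocalRing_of_flat [IsLocalRing A] [IsNoetherianRing A] [IsRegularLocalRing B]
    [Module.Flat A B] [IsLocalHom (algebraMap A B)] : IsRegularLocalRing A :=
  haveI : Module.FaithfullyFlat A B := Module.FaithfullyFlat.of_flat_of_isLocalHom
  isRegularLocalRing_of_faithfullyFlat (B := B)

end Groth.Agent.RegLoc6
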