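import Groth.Agent.RegLoc6.Restrict
import Groth.Agent.Alg6.AssDepth
import Mathlib.RingTheory.Localization.BaseChange
import Mathlib.RingTheory.TensorProduct.Quotient
import Mathlib.RingTheory.LocalRing.Module

/-!
Serre's characterisation of regular local rings by the finiteness of the projective dimension,
and the regularity of their localisations.
-/

universe u

namespace Groth.Agent.RegLoc6

open IsLocalRing Submodule

theorem isRegularLocalRing_of_isField {R : Type u} [CommRing R] [IsLocalRing R]
    [IsNoetherianRing R] (h : IsField R) : IsRegularLocalRing R := by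
  refine .of_spanFinrank_maximalIdeal_le _ ?_
  rw [IsLocalRing.isField_iff_maximalIdeal_eq.mp h, Submodule.spanFinrank_bot, Nat.cast_zero]
  exact ringKrullDim_nonneg_of_nontrivial

theorem pdLE_of_isRegularLocalRing_aux : ∀ (n : ℕ) (R : Type u) [CommRing R]
    [IsRegularLocalRing R], (maximalIdeal R).spanFinrank ≤ n →
    ∀ (M : Type u) [AddCommGroup M] [Module R M] [Module.Finite R M], PdLE R n M := by
  intro n
  induction n with
  | zero =>
    intro R _ _ h M _ _ _
    let : Field R := (isField_of_spanFinrank_eq_zero (Nat.le_zero.mp h)).toField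
    exact pdLE_of_projective 0
  | succ n ih =>
    intro R _ _ h M _ _ _
    by_cases hf : IsField R
    · let : Field R := hf.toField
      exact pdLE_of_projective _
    obtain ⟨x, hx, hx2⟩ := SetLike.not_le_iff_exists.mp (maximalIdeal_sq_ne hf)
    haveI := isLocalRing_quot hx
    haveI := (isRegularLocalRing_quot_and hx hx2).1
    obtain ⟨k, g, hg⟩ := exists_presentation (R := R) (M := M)
    rw [pdLE_succ_iff g hg]
    have hR := isSMulRegular_of_notMem_sq hx2
    have hK : IsSMulRegular (LinearMap.ker g) x := fun a b hab =>
      Subtype.ext (funext fun i => hR (congrFun (congrArg Subtype.val hab) i))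
    let I := Ideal.span {x}
    haveI : Module.Finite (R ⧸ I) (LinearMap.ker g ⧸ (I • ⊤ : Submodule R (LinearMap.ker g))) :=
      Module.Finite.of_restrictScalars_finite R _ _
    have h1 := pdLE_succ_restrict hR n _ (ih (R ⧸ I) (by
      have : (maximalIdeal (R ⧸ I)).spanFinrank + 1 ≤ _ := spanFinrank_quot_le hx hx2
      omega) (LinearMap.ker g ⧸ (I • ⊤ : Submodule R (LinearMap.ker g))))
    exact pdLE_of_quotSMulTop hK hx
      (pdLE_of_equiv (Submodule.quotEquivOfEq _ _ (Submodule.ideal_span_singleton_smul x ⊤)) h1)

/-- Over a regular local ring, every finite module has finite projective dimension. -/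
theorem pdLE_of_isRegularLocalRing (R : Type u) [CommRing R] [IsRegularLocalRing R]
    (M : Type u) [AddCommGroup M] [Module R M] [Module.Finite R M] :
    PdLE R (maximalIdeal R).spanFinrank M :=
  pdLE_of_isRegularLocalRing_aux _ R le_rfl M

section Socle

variable {R : Type u} [CommRing R] [IsLocalRing R] [IsNoetherianRing R]

theorem projective_of_socle {z : R} (hz0 : z ≠ 0) (hz : ∀ a ∈ maximalIdeal R, a * z = 0) :
    ∀ (n : ℕ) (M : Type u) [AddCommGroup M] [Module R M] [Module.Finite R M],
      PdLE R n M → Module.Projective R M := by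
  intro n
  induction n with
  | zero => intro M _ _ _ h; exact pdLE_zero_iff.mp h
  | succ n ih =>
    intro M _ _ _ h
    classical
    have hfg : (⊤ : Submodule R M).FG := Module.Finite.fg_top
    have fin := Submodule.FG.finite_generators hfg
    let s := fin.toFinset
    have hs : Submodule.span R (s : Set M) = ⊤ := by
      simpa [s] using (⊤ : Submodule R M).span_generators
    have hcard : s.card = (⊤ : Submodule R M).spanFinrank := by
      rw [← Submodule.FG.generators_ncard hfg, Set.ncard_eq_toFinset_card _ fin]
    let g : ({v // v ∈ s} → R) →ₗ[R] M := Fintype.linearCombination R Subtype.val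
    have hg : Function.Surjective g := by
      rw [← LinearMap.range_eq_top, Fintype.range_linearCombination]
      simpa using hs
    have hmin : ∀ c ∈ LinearMap.ker g, ∀ i, c i ∈ maximalIdeal R := by
      intro c hc i
      by_contra hu
      obtain ⟨w, hw⟩ := IsLocalRing.notMem_maximalIdeal.mp hu
      have hsum : ∑ j, c j • (j : M) = 0 := by
        simpa [g, Fintype.linearCombination_apply] using hc
      have hspan : Submodule.span R ((s.erase i.1 : Finset M) : Set M) = ⊤ := by
        rw [eq_top_iff, ← hs, Submodule.span_le]
        intro y hy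
        by_cases hyi : y = i.1
        · rw [← Finset.sum_erase_add _ _ (Finset.mem_univ i), ← hw] at hsum
          have hy' : y = (↑w⁻¹ : R) • -(∑ j ∈ Finset.univ.erase i, c j • (j : M)) := by
            rw [neg_eq_of_add_eq_zero_right hsum, ← Units.smul_def, ← Units.smul_def,
              inv_smul_smul, hyi]
          rw [hy']
          refine Submodule.smul_mem _ _ (Submodule.neg_mem _ (Submodule.sum_mem _ fun j hj => ?_))
          refine Submodule.smul_mem _ _ (Submodule.subset_span (Finset.mem_erase.mpr ⟨?_, j.2⟩))
          exact fun hji => (Finset.mem_erase.mp hj).1 (Subtype.ext hji)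
        · exact Submodule.subset_span (Finset.mem_erase.mpr ⟨hyi, hy⟩)
      have := Submodule.spanFinrank_span_le_ncard_of_finite (R := R) (s.erase i.1).finite_toSet
      rw [hspan, Set.ncard_coe_finset, Finset.card_erase_of_mem i.2, hcard] at this
      have hpos : 0 < s.card := Finset.card_pos.mpr ⟨i.1, i.2⟩
      omega
    haveI : Module.Projective R (LinearMap.ker g) := ih _ ((pdLE_succ_iff g hg).mp h)
    haveI : Module.Free R (LinearMap.ker g) := Module.free_of_flat_of_isLocalRing
    have hker : LinearMap.ker g = ⊥ := by
      let b := Module.Free.chooseBasis R (LinearMap.ker g)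
      have hempty : IsEmpty (Module.Free.ChooseBasisIndex R (LinearMap.ker g)) := ⟨fun j => hz0 (by
        have h0 : z • b j = 0 := Subtype.ext (funext fun i => by
          simpa [mul_comm] using hz _ (hmin _ (b j).2 i))
        simpa using congrArg (fun v => b.repr v j) h0)⟩
      have : Subsingleton (LinearMap.ker g) := b.repr.toEquiv.subsingleton
      exact Submodule.subsingleton_iff_eq_bot.mp this
    exact Module.Projective.of_equiv
      (LinearEquiv.ofBijective g ⟨LinearMap.ker_eq_bot.mp hker, hg⟩)

end Socle

theorem isRegularLocalRing_of_pdLE_aux : ∀ (N : ℕ) (R : Type u) [CommRing R] [IsLocalRing R]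
    [IsNoetherianRing R], (maximalIdeal R).spanFinrank ≤ N →
    ∀ n : ℕ, PdLE R n (R ⧸ maximalIdeal R) → IsRegularLocalRing R := by
  intro N
  induction N with
  | zero =>
    intro R _ _ _ h n _
    exact isRegularLocalRing_of_isField (isField_of_spanFinrank_eq_zero (Nat.le_zero.mp h))
  | succ N ih =>
    intro R _ _ _ h n hn
    by_cases hf : IsField R
    · exact isRegularLocalRing_of_isField hf
    classical
    have hass : maximalIdeal R ∉ associatedPrimes R R := by
      intro hm
      obtain ⟨-, z, hz⟩ := Alg6.mem_ass_iff.mp hm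
      have hz0 : z ≠ 0 := fun h0 =>
        (maximalIdeal.isMaximal R).ne_top (Ideal.eq_top_of_isUnit_mem _
          ((hz 1).mpr (by simp [h0])) isUnit_one)
      haveI := projective_of_socle hz0 (fun a ha => (hz a).mp ha) n _ hn
      haveI : Module.Free R (R ⧸ maximalIdeal R) := Module.free_of_flat_of_isLocalRing
      haveI : Nontrivial (R ⧸ maximalIdeal R) :=
        Ideal.Quotient.nontrivial_iff.mpr (maximalIdeal.isMaximal R).ne_top
      apply hf
      rw [IsLocalRing.isField_iff_maximalIdeal_eq, ← Ideal.annihilator_quotient (I := maximalIdeal R)]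
      exact Module.annihilator_eq_bot.mpr inferInstance
    have hfinass := associatedPrimes.finite R R
    obtain ⟨x, hx, hx2, hxreg⟩ : ∃ x ∈ maximalIdeal R, x ∉ maximalIdeal R ^ 2 ∧
        IsSMulRegular R x := by
      by_contra! hc
      let fs : Finset (Ideal R) := insert (maximalIdeal R ^ 2) hfinass.toFinset
      have hsub : (maximalIdeal R : Set R) ⊆ ⋃ p ∈ (fs : Set (Ideal R)), (p : Set R) := by
        intro y hy
        by_cases h2 : y ∈ maximalIdeal R ^ 2
        · exact Set.mem_biUnion (show maximalIdeal R ^ 2 ∈ (fs : Set (Ideal R)) by simp [fs]) h2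
        · have := hc y hy h2
          rw [Alg6.isSMulRegular_iff_forall_ass] at this
          push Not at this
          obtain ⟨q, hq, hyq⟩ := this
          exact Set.mem_biUnion (show q ∈ (fs : Set (Ideal R)) by simp [fs, hq]) hyq
      obtain ⟨p, hp, hle⟩ := (Ideal.subset_union_prime (maximalIdeal R ^ 2) (maximalIdeal R ^ 2)
        (fun p hp hne _ => by
          rcases Finset.mem_insert.mp hp with h' | h'
          · exact absurd h' hne
          · exact IsAssociatedPrime.isPrime ((Set.Finite.mem_toFinset _).mp h'))).mp hsub
      rcases Finset.mem_insert.mp hp with rfl | h'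
      · exact maximalIdeal_sq_ne hf hle
      · have hp' := (Set.Finite.mem_toFinset _).mp h'
        haveI := IsAssociatedPrime.isPrime hp'
        exact hass ((le_antisymm (IsLocalRing.le_maximalIdeal Ideal.IsPrime.ne_top') hle) ▸ hp')
    haveI := isLocalRing_quot hx
    let I := Ideal.span {x}
    -- projective dimension of the maximal ideal and of its reduction
    have hm : PdLE R n (maximalIdeal R) :=
      pdLE_of_equiv (LinearEquiv.ofEq _ _ (Submodule.ker_mkQ (maximalIdeal R)))
        (pdLE_ker _ (Submodule.mkQ_surjective (maximalIdeal R))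
          (pdLE_mono (Nat.le_succ n) hn) (pdLE_of_projective n))
    have hregm : IsSMulRegular (maximalIdeal R) x := fun a b hab =>
      Subtype.ext (hxreg (congrArg Subtype.val hab))
    have hq := pdLE_quotient hxreg n (maximalIdeal R) hregm hm
    -- the reduction maps onto the maximal ideal of the quotient, with a section
    let π : maximalIdeal R →ₗ[R] maximalIdeal (R ⧸ I) :=
      { toFun := fun a => ⟨Ideal.Quotient.mk I a.1, by
          rw [← map_maximalIdeal_quot]; exact Ideal.mem_map_of_mem _ a.2⟩
        map_add' := fun _ _ => Subtype.ext (map_add _ _ _)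
        map_smul' := fun c a => Subtype.ext (by
          show Ideal.Quotient.mk I (c * a.1) = c • Ideal.Quotient.mk I a.1
          rw [map_mul]; rfl) }
    have hπI : (I • ⊤ : Submodule R (maximalIdeal R)) ≤ LinearMap.ker π := by
      rw [Submodule.smul_le]
      intro r hr m _
      rw [LinearMap.mem_ker]
      exact Subtype.ext (Ideal.Quotient.eq_zero_iff_mem.mpr (I.mul_mem_right _ hr))
    let p : (maximalIdeal R ⧸ (I • ⊤ : Submodule R (maximalIdeal R))) →ₗ[R ⧸ I]
        maximalIdeal (R ⧸ I) :=
      ((I • ⊤ : Submodule R (maximalIdeal R)).liftQ π hπI).extendScalarsOfSurjective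
        Ideal.Quotient.mk_surjective
    obtain ⟨t, ht, htcard⟩ := exists_generators_insert hx hx2
    let J : Submodule R (maximalIdeal R) := Submodule.comap (maximalIdeal R).subtype (Ideal.span (t : Set R))
    have hJsurj : Function.Surjective (π.comp J.subtype) := by
      rintro ⟨v, hv⟩
      rw [← map_maximalIdeal_quot, Ideal.mem_map_iff_of_surjective _ Ideal.Quotient.mk_surjective]
        at hv
      obtain ⟨a, ha, rfl⟩ := hv
      rw [ht, Ideal.span_insert, Submodule.mem_sup] at ha
      obtain ⟨b, hb, c, hc, rfl⟩ := ha
      have hcm : c ∈ maximalIdeal R :=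
        ht.symm ▸ Ideal.span_mono (Set.subset_insert _ _) hc
      refine ⟨⟨⟨c, hcm⟩, hc⟩, Subtype.ext ?_⟩
      show Ideal.Quotient.mk I c = Ideal.Quotient.mk I (b + c)
      rw [map_add, Ideal.Quotient.eq_zero_iff_mem.mpr hb, zero_add]
    have hJker : LinearMap.ker (π.comp J.subtype) ≤
        LinearMap.ker ((I • ⊤ : Submodule R (maximalIdeal R)).mkQ.comp J.subtype) := by
      intro a ha
      have haI : (a.1.1 : R) ∈ I := Ideal.Quotient.eq_zero_iff_mem.mp
        (congrArg Subtype.val (LinearMap.mem_ker.mp ha))
      obtain ⟨r, hr⟩ := Ideal.mem_span_singleton.mp haI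
      have hrm : r ∈ maximalIdeal R := by
        by_contra hru
        obtain ⟨w, hw⟩ := IsLocalRing.notMem_maximalIdeal.mp hru
        have hxJ : x ∈ Ideal.span (t : Set R) := by
          have : a.1.1 * (↑w⁻¹ : R) ∈ Ideal.span (t : Set R) := Ideal.mul_mem_right _ _ a.2
          rwa [hr, ← hw, Units.mul_inv_cancel_right] at this
        have : maximalIdeal R = Ideal.span (t : Set R) := by
          rw [ht, Ideal.span_insert, sup_eq_right]
          exact (Ideal.span_singleton_le_iff_mem _).mpr hxJ
        have h2 := Submodule.spanFinrank_span_le_ncard_of_finite (R := R) (M := R) t.finite_toSet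
        rw [show Submodule.span R (t : Set R) = maximalIdeal R from this.symm,
          Set.ncard_coe_finset] at h2
        omega
      rw [LinearMap.mem_ker, LinearMap.comp_apply, Submodule.mkQ_apply,
        Submodule.Quotient.mk_eq_zero]
      have : J.subtype a = x • (⟨r, hrm⟩ : maximalIdeal R) := Subtype.ext hr
      rw [this]
      exact Submodule.smul_mem_smul (Ideal.mem_span_singleton_self x) Submodule.mem_top
    let i₀ : maximalIdeal (R ⧸ I) →ₗ[R]
        (maximalIdeal R ⧸ (I • ⊤ : Submodule R (maximalIdeal R))) :=
      ((LinearMap.ker (π.comp J.subtype)).liftQ _ hJker).comp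
        ((π.comp J.subtype).quotKerEquivOfSurjective hJsurj).symm.toLinearMap
    let i := i₀.extendScalarsOfSurjective (S := R ⧸ I) Ideal.Quotient.mk_surjective
    have hpi : p.comp i = LinearMap.id := LinearMap.ext fun v => by
      obtain ⟨a, rfl⟩ := hJsurj v
      have : ((π.comp J.subtype).quotKerEquivOfSurjective hJsurj).symm (π.comp J.subtype a) =
          Submodule.Quotient.mk a := by
        rw [LinearEquiv.symm_apply_eq]; rfl
      show p (((LinearMap.ker (π.comp J.subtype)).liftQ _ hJker)
        (((π.comp J.subtype).quotKerEquivOfSurjective hJsurj).symm (π.comp J.subtype a))) = _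
      rw [this]
      rfl
    have hmS : PdLE (R ⧸ I) n (maximalIdeal (R ⧸ I)) := pdLE_of_retract i p hpi hq
    have hkS : PdLE (R ⧸ I) (n + 1) ((R ⧸ I) ⧸ maximalIdeal (R ⧸ I)) :=
      pdLE_succ_of_ker _ (Submodule.mkQ_surjective (maximalIdeal (R ⧸ I)))
        (pdLE_of_equiv (LinearEquiv.ofEq _ _ (Submodule.ker_mkQ (maximalIdeal (R ⧸ I))).symm) hmS)
        (pdLE_of_projective (n + 1))
    haveI := ih (R ⧸ I) (by
      have : (maximalIdeal (R ⧸ I)).spanFinrank + 1 ≤ _ := spanFinrank_quot_le hx hx2
      omega) (n + 1) hkS
    exact of_quotient hx hxreg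

/-- Serre: a Noetherian local ring whose residue field has finite projective dimension is
regular. -/
theorem isRegularLocalRing_of_pdLE {R : Type u} [CommRing R] [IsLocalRing R] [IsNoetherianRing R]
    {n : ℕ} (h : PdLE R n (R ⧸ maximalIdeal R)) : IsRegularLocalRing R :=
  isRegularLocalRing_of_pdLE_aux _ R le_rfl n h

/-- A localisation of a regular local ring at a prime is regular. -/
theorem isRegularLocalRing_localization (R : Type u) [CommRing R] [IsRegularLocalRing R]
    (p : Ideal R) [p.IsPrime] : IsRegularLocalRing (Localization.AtPrime p) := by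
  have h := pdLE_localized (pdLE_of_isRegularLocalRing R (R ⧸ p)) p.primeCompl
  refine isRegularLocalRing_of_pdLE (n := (maximalIdeal R).spanFinrank) ?_
  exact pdLE_of_equiv ((LocalizedModule.equivTensorProduct p.primeCompl (R ⧸ p)).trans
    ((Algebra.TensorProduct.quotIdealMapEquivTensorQuot (Localization.AtPrime p) p).symm.toLinearEquiv.trans
      (Submodule.quotEquivOfEq _ _ Localization.AtPrime.map_eq_maximalIdeal))) h

/-- A regular local ring is a regular ring. -/
theorem isRegularRing_of_isRegularLocalRing (R : Type u) [CommRing R] [IsRegularLocalRing R] :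
    IsRegularRing R :=
  ⟨fun p _ => isRegularLocalRing_localization R p⟩

end Groth.Agent.RegLoc6
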