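import Groth.Agent.RegLoc6.Descent
import Mathlib.RingTheory.Ideal.GoingDown
import Mathlib.RingTheory.Flat.Localization

/-!
Regularity descends along flat maps, at primes.
-/

universe u

namespace Groth.Agent.RegLoc6

variable {A B : Type u} [CommRing A] [CommRing B] [Algebra A B]

theorem regular_under_of_flat [IsNoetherianRing A] [Module.Flat A B] (Q : Ideal B) [Q.IsPrime]
    (p : Ideal A) [p.IsPrime] (hp : Q.comap (algebraMap A B) = p)
    (h : IsRegularLocalRing (Localization.AtPrime Q)) :
    IsRegularLocalRing (Localization.AtPrime p) := by
  subst hp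
  haveI := h
  let := Localization.AtPrime.algebraOfLiesOver (Q.under A) Q
  have : IsLocalHom (algebraMap (Localization.AtPrime <| Q.under A) (Localization.AtPrime Q)) := by
    rw [RingHom.algebraMap_toAlgebra]
    exact Localization.isLocalHom_localRingHom (Q.under A) Q (algebraMap A B) Ideal.LiesOver.over
  exact isRegularLocalRing_of_flat (A := Localization.AtPrime (Q.under A))
    (B := Localization.AtPrime Q)

end Groth.Agent.RegLoc6
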