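import Groth.Agent.RegLoc6.Open
import Mathlib.RingTheory.Etale.Locus
import Mathlib.RingTheory.Smooth.Flat
import Mathlib.RingTheory.Unramified.LocalRing
import Mathlib.RingTheory.Ideal.GoingDown
import Mathlib.RingTheory.Ideal.KrullsHeightTheorem
import Mathlib.RingTheory.MvPolynomial.Localization
import Mathlib.RingTheory.RegularLocalRing.Polynomial
import Mathlib.RingTheory.Localization.LocalizationLocalization

/-!
Regularity along etale maps and polynomial extensions.
-/

universe u

namespace Groth.Agent.RegLoc6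

open IsLocalRing

variable {A B : Type u} [CommRing A] [CommRing B] [Algebra A B]

/-- An etale algebra is regular at a prime lying over a regular prime. -/
theorem regular_of_etale [IsNoetherianRing A] [IsNoetherianRing B] [Algebra.Etale A B]
    (Q : Ideal B) [Q.IsPrime] (h : IsRegularLocalRing (Localization.AtPrime (Q.under A))) :
    IsRegularLocalRing (Localization.AtPrime Q) := by
  haveI := h
  let := Localization.AtPrime.algebraOfLiesOver (Q.under A) Q
  haveI : Module.Flat A B := Algebra.Smooth.flat A B
  haveI : Algebra.IsUnramifiedAt A Q :=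
    Algebra.FormallyUnramified.comp A B (Localization.AtPrime Q)
  have hmap := ((Algebra.isUnramifiedAt_iff_map_eq A (Q.under A) Q).mp ‹_›).2
  refine .of_spanFinrank_maximalIdeal_le _ ?_
  rw [← hmap, IsLocalization.AtPrime.ringKrullDim_eq_height Q (Localization.AtPrime Q)]
  have hreg := (isRegularLocalRing_iff (Localization.AtPrime (Q.under A))).mp h
  rw [IsLocalization.AtPrime.ringKrullDim_eq_height (Q.under A)
    (Localization.AtPrime (Q.under A))] at hreg
  have hle : (Q.under A).height ≤ Q.height :=
    (Ideal.height_eq_height_add_of_liesOver_of_hasGoingDown (Q.under A) Q).symm ▸ le_self_add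
  refine le_trans ?_ (hreg.trans_le (WithBot.coe_le_coe.mpr hle))
  rw [IsScalarTower.algebraMap_eq A (Localization.AtPrime (Q.under A)) (Localization.AtPrime Q),
    ← Ideal.map_map, Localization.AtPrime.map_eq_maximalIdeal]
  have fg := (maximalIdeal (Localization.AtPrime (Q.under A))).fg_of_isNoetherianRing
  have fin := Submodule.FG.finite_generators fg
  conv_lhs => rw [← (maximalIdeal (Localization.AtPrime (Q.under A))).span_generators,
    show Submodule.span _ _ = Ideal.span _ from rfl, Ideal.map_span]
  exact_mod_cast (Submodule.spanFinrank_span_le_ncard_of_finite (fin.image _)).trans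
    ((Set.ncard_image_le fin).trans (Submodule.FG.generators_ncard fg).le)

/-- `A` has a nonempty open set of regular points (for a domain). -/
def J0 (A : Type u) [CommRing A] : Prop :=
  ∃ f : A, f ≠ 0 ∧ ∀ (Q : Ideal A) [Q.IsPrime], f ∉ Q → IsRegularLocalRing (Localization.AtPrime Q)

theorem j0_iff [IsDomain A] :
    J0 A ↔ ∃ U : Set (PrimeSpectrum A), IsOpen U ∧ U.Nonempty ∧
      ∀ x ∈ U, IsRegularLocalRing (Localization.AtPrime x.asIdeal) := by
  constructor
  · rintro ⟨f, hf, h⟩
    exact ⟨PrimeSpectrum.basicOpen f, PrimeSpectrum.isOpen_basicOpen,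
      ⟨⟨⊥, Ideal.bot_prime⟩, by simpa using hf⟩, fun x hx => h x.asIdeal hx⟩
  · rintro ⟨U, hUo, ⟨w, hw⟩, hU⟩
    obtain ⟨_, ⟨f, rfl⟩, hfw, hfU⟩ :=
      PrimeSpectrum.isTopologicalBasis_basic_opens.exists_subset_of_mem_open hw hUo
    exact ⟨f, fun h => hfw (h ▸ w.asIdeal.zero_mem), fun Q hQ hfQ => hU ⟨Q, hQ⟩ (hfU hfQ)⟩

theorem J0.of_ringEquiv {A B : Type u} [CommRing A] [CommRing B] (e : A ≃+* B) (h : J0 A) :
    J0 B := by
  obtain ⟨f, hf, hreg⟩ := h
  refine ⟨e f, fun h0 => hf (e.map_eq_zero_iff.mp h0), fun Q _ hQ => ?_⟩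
  haveI : IsRegularLocalRing (Localization.AtPrime (Q.comap e)) := hreg _ hQ
  exact IsRegularLocalRing.of_ringEquiv (IsLocalization.ringEquivOfRingEquiv
    (Localization.AtPrime (Q.comap e)) (Localization.AtPrime Q) e (e.map_primeCompl_comap_eq Q))

theorem regular_iff_localization (M : Submonoid A) (C : Type u) [CommRing C] [Algebra A C]
    [IsLocalization M C] (P : Ideal C) [P.IsPrime] :
    IsRegularLocalRing (Localization.AtPrime P) ↔
      IsRegularLocalRing (Localization.AtPrime (P.comap (algebraMap A C))) := by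
  haveI : IsLocalization.AtPrime (Localization.AtPrime P) (P.comap (algebraMap A C)) :=
    IsLocalization.isLocalization_isLocalization_atPrime_isLocalization M (Localization.AtPrime P) P
  let e := (IsLocalization.algEquiv (P.comap (algebraMap A C)).primeCompl
    (Localization.AtPrime P) (Localization.AtPrime (P.comap (algebraMap A C)))).toRingEquiv
  exact ⟨fun h => haveI := h; IsRegularLocalRing.of_ringEquiv e,
    fun h => haveI := h; IsRegularLocalRing.of_ringEquiv e.symm⟩

theorem J0.mvPolynomial [IsNoetherianRing A] (ι : Type u) [Finite ι] (h : J0 A) :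
    J0 (MvPolynomial ι A) := by
  obtain ⟨f, hf, hreg⟩ := h
  refine ⟨MvPolynomial.C f, fun h0 => hf (MvPolynomial.C_injective ι A (h0.trans (map_zero _).symm)),
    fun P _ hP => ?_⟩
  let Af := Localization.Away f
  haveI : IsNoetherianRing Af := IsLocalization.isNoetherianRing (Submonoid.powers f) _ ‹_›
  haveI : IsRegularRing Af := ⟨fun Q _ => (regular_iff_localization (Submonoid.powers f) Af Q).mpr
    (hreg _ fun hQ => Ideal.IsPrime.ne_top' (I := Q) (Ideal.eq_top_of_isUnit_mem _ hQ
      (IsLocalization.map_units Af (⟨f, Submonoid.mem_powers f⟩ : Submonoid.powers f))))⟩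
  letI : Algebra (MvPolynomial ι A) (MvPolynomial ι Af) := MvPolynomial.algebraMvPolynomial
  let M := (Submonoid.powers f).map (MvPolynomial.C (σ := ι) (R := A))
  have hd : Disjoint (M : Set (MvPolynomial ι A)) (P : Set (MvPolynomial ι A)) := by
    rw [Set.disjoint_left]
    rintro _ ⟨_, ⟨n, rfl⟩, rfl⟩ hn
    rw [map_pow] at hn
    exact hP (Ideal.IsPrime.mem_of_pow_mem ‹_› n hn)
  let P' := P.map (algebraMap (MvPolynomial ι A) (MvPolynomial ι Af))
  haveI : P'.IsPrime :=
    IsLocalization.isPrime_of_isPrime_disjoint M (MvPolynomial ι Af) P ‹_› hd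
  have hP' : P'.comap (algebraMap (MvPolynomial ι A) (MvPolynomial ι Af)) = P :=
    IsLocalization.under_map_of_isPrime_disjoint M (MvPolynomial ι Af) ‹_› hd
  have hr := (regular_iff_localization M (MvPolynomial ι Af) P').mp inferInstance
  have key : ∀ (I : Ideal (MvPolynomial ι A)) [I.IsPrime], I = P →
      IsRegularLocalRing (Localization.AtPrime I) → IsRegularLocalRing (Localization.AtPrime P) := by
    intro I _ hI h
    subst hI
    exact h
  exact key _ hP' hr

end Groth.Agent.RegLoc6
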