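import Mathlib.FieldTheory.SeparablyGenerated
import Mathlib.RingTheory.Nilpotent.GeometricallyReduced
import Mathlib.FieldTheory.IsAlgClosed.AlgebraicClosure
import Mathlib.LinearAlgebra.TensorProduct.Basis

/-!
Geometrically reduced finitely generated extensions are separably generated.
-/

universe u

namespace Groth.Agent.RegLoc6

open TensorProduct

theorem linearIndepOn_pow_of_isGeometricallyReduced {k L : Type u} [Field k] [Field L] [Algebra k L]
    [Algebra.IsGeometricallyReduced k L] (p : ℕ) [ExpChar k p] (s : Finset L)
    (hs : LinearIndepOn k _root_.id (s : Set L)) :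
    LinearIndepOn k (fun x : L => x ^ p) (s : Set L) := by
  classical
  let kbar := AlgebraicClosure k
  haveI : ExpChar kbar p := expChar_of_injective_algebraMap (algebraMap k kbar).injective p
  rw [linearIndepOn_finset_iff]
  intro c hc
  let d : L → kbar := fun x => (frobeniusEquiv kbar p).symm (algebraMap k kbar (c x))
  have hd : ∀ x, d x ^ p = algebraMap k kbar (c x) := fun x =>
    (frobeniusEquiv kbar p).apply_symm_apply _
  haveI : IsReduced (kbar ⊗[k] L) := inferInstance
  haveI : ExpChar (kbar ⊗[k] L) p :=
    expChar_of_injective_ringHom (Algebra.TensorProduct.includeLeft_injective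
      (S := k) (A := kbar) (B := L) (algebraMap k L).injective) p
  let z : kbar ⊗[k] L := ∑ x ∈ s, d x ⊗ₜ[k] x
  have hz : z ^ p = 0 := by
    rw [sum_pow_char p]
    have : ∀ x : L, (d x ⊗ₜ[k] x) ^ p = (1 : kbar) ⊗ₜ[k] (c x • x ^ p) := fun x => by
      rw [Algebra.TensorProduct.tmul_pow, hd, Algebra.algebraMap_eq_smul_one,
        TensorProduct.smul_tmul]
    rw [Finset.sum_congr rfl fun x _ => this x, ← TensorProduct.tmul_sum, hc, TensorProduct.tmul_zero]
  have hz0 : z = 0 := eq_zero_of_pow_eq_zero hz
  -- compare coordinates in a basis of `kbar`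
  let b := Module.Free.chooseBasis k kbar
  have hcoord : ∀ j, ∑ x ∈ s, b.repr (d x) j • x = 0 := fun j => by
    have h := congrArg ((TensorProduct.lid k L).toLinearMap ∘ₗ TensorProduct.map (b.coord j) LinearMap.id) hz0
    simpa [z, map_sum] using h
  intro x hx
  have hrepr : ∀ j, b.repr (d x) j = 0 := fun j =>
    linearIndepOn_finset_iff.mp hs (fun x => b.repr (d x) j) (hcoord j) x hx
  have hdx : d x = 0 := b.repr.map_eq_zero_iff.mp (Finsupp.ext hrepr)
  have hcx := hd x
  rw [hdx, zero_pow (expChar_pos kbar p).ne'] at hcx
  exact (map_eq_zero (algebraMap k kbar)).mp hcx.symm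

theorem exists_separating_transcendence (k L : Type u) [Field k] [Field L] [Algebra k L]
    [Algebra.EssFiniteType k L] [Algebra.IsGeometricallyReduced k L] :
    ∃ s : Finset L, IsTranscendenceBasis k ((↑) : s → L) ∧
      Algebra.IsSeparable (IntermediateField.adjoin k (s : Set L)) L := by
  obtain h0 | ⟨p, hp, hpk⟩ := CharP.exists' k
  · haveI := h0
    exact exists_isTranscendenceBasis_and_isSeparable_of_perfectField k L
  · haveI : ExpChar k p := .prime hp.out
    exact exists_isTranscendenceBasis_and_isSeparable_of_linearIndepOn_pow_of_essFiniteType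
      p hp.out fun s hs => linearIndepOn_pow_of_isGeometricallyReduced p s hs

end Groth.Agent.RegLoc6
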