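import Groth.Agent.RegLoc6.Open
import Mathlib.RingTheory.IntegralClosure.IntegrallyClosed
import Mathlib.RingTheory.Polynomial.ScaleRoots
import Mathlib.RingTheory.Localization.Integral
import Mathlib.RingTheory.Localization.FractionRing

/-!
Regular local rings are normal; normality near a prime of normal generic fibre.
-/

universe u v

namespace Groth.Agent.RegLoc6

open IsLocalRing Polynomial

/-- If `z` is integral, `x z ∈ A` and `(x)` is radical (e.g. prime) then `z ∈ A`. -/
theorem mem_range_of_mul_mem {A : Type u} [CommRing A] {K : Type v} [CommRing K] [Algebra A K]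
    [FaithfulSMul A K] {x : A} (hx : IsRegular (algebraMap A K x)) (hp : (Ideal.span {x}).IsPrime)
    {z : K} (hz : IsIntegral A z) {a : A} (ha : algebraMap A K x * z = algebraMap A K a) :
    ∃ b : A, algebraMap A K b = z := by
  obtain ⟨P, hP, hPz⟩ := hz
  have h0 : Polynomial.aeval (algebraMap A K a) (P.scaleRoots x) = 0 := by
    rw [← ha]; exact Polynomial.scaleRoots_aeval_eq_zero hPz
  rw [Polynomial.aeval_algebraMap_apply_eq_algebraMap_eval,
    FaithfulSMul.algebraMap_eq_zero_iff] at h0
  have hmem : a ^ P.natDegree ∈ Ideal.span {x} := by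
    rw [Polynomial.eval_eq_sum_range, Polynomial.natDegree_scaleRoots,
      Finset.sum_range_succ, Polynomial.coeff_scaleRoots_natDegree, hP.leadingCoeff, one_mul] at h0
    rw [eq_neg_of_add_eq_zero_right h0, Ideal.neg_mem_iff]
    refine Ideal.sum_mem _ fun i hi => ?_
    rw [Polynomial.coeff_scaleRoots]
    refine Ideal.mul_mem_right _ _ (Ideal.mul_mem_left _ _ ?_)
    exact Ideal.pow_mem_of_mem _ (Ideal.mem_span_singleton_self x) _
      (Nat.sub_pos_of_lt (Finset.mem_range.mp hi))
  obtain ⟨b, rfl⟩ := Ideal.mem_span_singleton.mp (hp.mem_of_pow_mem _ hmem)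
  exact ⟨b, hx.left (by show _ * _ = _ * _; rw [ha, ← map_mul])⟩

theorem isIntegrallyClosed_aux : ∀ (n : ℕ) (R : Type u) [CommRing R] [IsRegularLocalRing R],
    (maximalIdeal R).spanFinrank ≤ n → IsIntegrallyClosed R := by
  intro n
  induction n with
  | zero =>
    intro R _ _ h
    let : Field R := (isField_of_spanFinrank_eq_zero (Nat.le_zero.mp h)).toField
    infer_instance
  | succ n ih =>
    intro R _ _ h
    by_cases hf : IsField R
    · let : Field R := hf.toField
      infer_instance
    haveI := isDomain_of_isRegularLocalRing R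
    obtain ⟨x, hx, hx2⟩ := SetLike.not_le_iff_exists.mp (maximalIdeal_sq_ne hf)
    haveI := (isRegularLocalRing_quot_and hx hx2).1
    haveI := isDomain_of_isRegularLocalRing (R ⧸ Ideal.span {x})
    have hP : (Ideal.span {x}).IsPrime := (Ideal.Quotient.isDomain_iff_prime _).mp inferInstance
    have hx0 : algebraMap R (FractionRing R) x ≠ 0 := by
      intro h0
      exact hx2 (((FaithfulSMul.algebraMap_eq_zero_iff R (FractionRing R)).mp h0).symm ▸
        Submodule.zero_mem _)
    rw [isIntegrallyClosed_iff (FractionRing R)]
    intro z hz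
    -- the denominators of `z`
    let D : Ideal R :=
      { carrier := {s | ∃ a, algebraMap R (FractionRing R) a = algebraMap R _ s * z}
        zero_mem' := ⟨0, by simp⟩
        add_mem' := fun {s t} ⟨a, ha⟩ ⟨b, hb⟩ => ⟨a + b, by rw [map_add, map_add, add_mul, ha, hb]⟩
        smul_mem' := fun c s ⟨a, ha⟩ => ⟨c * a, by rw [smul_eq_mul, map_mul, map_mul, ha, mul_assoc]⟩ }
    have hrad : x ∈ D.radical := by
      rw [Ideal.radical_eq_sInf, Submodule.mem_sInf]
      rintro (Q : Ideal R) ⟨hDQ, hQ⟩
      by_contra hxQ
      haveI := hQ
      haveI := isRegularLocalRing_localization R Q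
      have hne : Q ≠ maximalIdeal R := fun e => hxQ (e ▸ hx)
      have hlt : Q < maximalIdeal R :=
        lt_of_le_of_ne (IsLocalRing.le_maximalIdeal hQ.ne_top) hne
      have hdim : (maximalIdeal (Localization.AtPrime Q)).spanFinrank ≤ n := by
        have h1 := (isRegularLocalRing_iff (Localization.AtPrime Q)).mp inferInstance
        rw [IsLocalization.AtPrime.ringKrullDim_eq_height Q (Localization.AtPrime Q)] at h1
        have h2 := (isRegularLocalRing_iff R).mp ‹_›
        rw [← maximalIdeal_height_eq_ringKrullDim] at h2
        have h3 := Ideal.height_add_one_le_of_lt_of_isPrime hlt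
        have h1' : ((maximalIdeal (Localization.AtPrime Q)).spanFinrank : ℕ∞) = Q.height := by
          exact_mod_cast h1
        have h2' : ((maximalIdeal R).spanFinrank : ℕ∞) = (maximalIdeal R).height := by
          exact_mod_cast h2
        rw [← h1', ← h2'] at h3
        have : (maximalIdeal (Localization.AtPrime Q)).spanFinrank + 1 ≤
            (maximalIdeal R).spanFinrank := by exact_mod_cast h3
        omega
      haveI := ih (Localization.AtPrime Q) hdim
      letI : Algebra (Localization.AtPrime Q) (FractionRing R) :=
        IsLocalization.localizationAlgebraOfSubmonoidLe (Localization.AtPrime Q) (FractionRing R)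
          Q.primeCompl (nonZeroDivisors R) Q.primeCompl_le_nonZeroDivisors
      haveI : IsScalarTower R (Localization.AtPrime Q) (FractionRing R) :=
        IsLocalization.localization_isScalarTower_of_submonoid_le _ _ _ _
          Q.primeCompl_le_nonZeroDivisors
      haveI : IsFractionRing (Localization.AtPrime Q) (FractionRing R) :=
        IsFractionRing.isFractionRing_of_isDomain_of_isLocalization Q.primeCompl _ _
      obtain ⟨y, hy⟩ := (isIntegrallyClosed_iff (FractionRing R)).mp
        (inferInstance : IsIntegrallyClosed (Localization.AtPrime Q))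
        (hz.tower_top (A := Localization.AtPrime Q))
      obtain ⟨a, s, rfl⟩ := IsLocalization.exists_mk'_eq Q.primeCompl y
      refine s.2 (hDQ ⟨a, ?_⟩)
      rw [← hy, IsScalarTower.algebraMap_apply R (Localization.AtPrime Q) (FractionRing R),
        IsScalarTower.algebraMap_apply R (Localization.AtPrime Q) (FractionRing R) s, ← map_mul,
        IsLocalization.mk'_spec']
    obtain ⟨k, hk⟩ := hrad
    obtain ⟨a, ha⟩ := hk
    rw [map_pow] at ha
    clear_value D
    induction k generalizing z a with
    | zero => exact ⟨a, by simpa using ha⟩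
    | succ k ihk =>
      obtain ⟨b, hb⟩ := mem_range_of_mul_mem (isRegular_iff_ne_zero.mpr hx0) hP
        ((IsIntegral.mul (isIntegral_algebraMap (x := x ^ k)) hz))
        (a := a) (by rw [ha, map_pow, pow_succ]; ring)
      exact ihk hz b (by rw [hb, map_pow])

/-- A regular local ring is integrally closed. -/
theorem isIntegrallyClosed_of_isRegularLocalRing (R : Type u) [CommRing R] [IsRegularLocalRing R] :
    IsIntegrallyClosed R :=
  isIntegrallyClosed_aux _ R le_rfl

end Groth.Agent.RegLoc6
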