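import Mathlib.RingTheory.Regular.ProjectiveDimension
import Mathlib.RingTheory.LocalProperties.ProjectiveDimension
import Mathlib.RingTheory.TensorProduct.Quotient
import Mathlib.RingTheory.Flat.Basic

/-!
Projective dimension of modules, elementwise interface.
-/

universe u

namespace Groth.Agent.RegLoc6

open CategoryTheory

variable (R : Type u) [CommRing R]

/-- The module `M` has projective dimension at most `n`. -/
def PdLE (n : ℕ) (M : Type u) [AddCommGroup M] [Module R M] : Prop :=
  HasProjectiveDimensionLE (ModuleCat.of R M) n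

variable {R}

section

variable {M N F : Type u} [AddCommGroup M] [Module R M] [AddCommGroup N] [Module R N]
  [AddCommGroup F] [Module R F]

theorem pdLE_zero_iff : PdLE R 0 M ↔ Module.Projective R M := by
  rw [PdLE, ← projective_iff_hasProjectiveDimensionLE_zero, ← IsProjective.iff_projective]

theorem pdLE_mono {m n : ℕ} (h : m ≤ n) (hm : PdLE R m M) : PdLE R n M :=
  @hasProjectiveDimensionLT_of_ge _ _ _ (ModuleCat.of R M) (m + 1) (n + 1) (by omega) hm

theorem pdLE_of_projective [Module.Projective R M] (n : ℕ) : PdLE R n M :=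
  pdLE_mono (Nat.zero_le n) (pdLE_zero_iff.mpr ‹_›)

theorem pdLE_of_equiv (e : M ≃ₗ[R] N) {n : ℕ} (h : PdLE R n M) : PdLE R n N :=
  haveI : HasProjectiveDimensionLE (ModuleCat.of R M) n := h
  ModuleCat.hasProjectiveDimensionLE_of_linearEquiv (M := ModuleCat.of R M)
    (N := ModuleCat.of R N) e n

theorem pdLE_of_retract (i : M →ₗ[R] N) (p : N →ₗ[R] M) (h : p.comp i = LinearMap.id) {n : ℕ}
    (hN : PdLE R n N) : PdLE R n M :=
  haveI : HasProjectiveDimensionLT (ModuleCat.of R N) (n + 1) := hN
  Retract.hasProjectiveDimensionLT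
    ({ i := ModuleCat.ofHom i, r := ModuleCat.ofHom p,
       retract := by rw [← ModuleCat.ofHom_comp, h, ModuleCat.ofHom_id] } :
      Retract (ModuleCat.of R M) (ModuleCat.of R N)) _

theorem pdLE_succ_of_ker (g : F →ₗ[R] M) (hg : Function.Surjective g) {n : ℕ}
    (hK : PdLE R n (LinearMap.ker g)) (hF : PdLE R (n + 1) F) : PdLE R (n + 1) M :=
  (LinearMap.shortExact_shortComplexKer hg).hasProjectiveDimensionLT_X₃ (n + 1) hK hF

theorem pdLE_ker (g : F →ₗ[R] M) (hg : Function.Surjective g) {n : ℕ}
    (hM : PdLE R (n + 1) M) (hF : PdLE R n F) : PdLE R n (LinearMap.ker g) :=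
  (LinearMap.shortExact_shortComplexKer hg).hasProjectiveDimensionLT_X₁ (n + 1) hF hM

theorem pdLE_succ_iff [Module.Projective R F] (g : F →ₗ[R] M) (hg : Function.Surjective g) {n : ℕ} :
    PdLE R (n + 1) M ↔ PdLE R n (LinearMap.ker g) :=
  ⟨fun h => pdLE_ker g hg h (pdLE_of_projective n),
    fun h => pdLE_succ_of_ker g hg h (pdLE_of_projective (n + 1))⟩

theorem exists_presentation [Module.Finite R M] :
    ∃ (k : ℕ) (g : (Fin k → R) →ₗ[R] M), Function.Surjective g :=
  Module.Finite.exists_fin' R M

theorem pdLE_localized {n : ℕ} (h : PdLE R n M) (S : Submonoid R) :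
    PdLE (Localization S) n (LocalizedModule S M) := by
  haveI : HasProjectiveDimensionLE (ModuleCat.of R M) n := h
  haveI := ModuleCat.localizedModule_hasProjectiveDimensionLE n S (ModuleCat.of R M)
  exact ModuleCat.hasProjectiveDimensionLE_of_linearEquiv
    (M := (ModuleCat.of R M).localizedModule S)
    (N := ModuleCat.of (Localization S) (LocalizedModule S M))
    (Shrink.linearEquiv (Localization S) (LocalizedModule S M)) n

variable [IsLocalRing R] [IsNoetherianRing R]

theorem pdLE_of_quotSMulTop [Module.Finite R M] {x : R} (hreg : IsSMulRegular M x)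
    (hx : x ∈ IsLocalRing.maximalIdeal R) {n : ℕ}
    (h : PdLE R (n + 1) (QuotSMulTop x M)) : PdLE R n M := by
  have h' := (projectiveDimension_le_iff _ _).mpr h
  rw [ModuleCat.projectiveDimension_quotSMulTop_eq_succ_of_isSMulRegular (ModuleCat.of R M) x
    hreg hx, Nat.cast_add, Nat.cast_one, ENat.WithBot.add_le_add_one_right_iff] at h'
  exact (projectiveDimension_le_iff _ _).mp h'

end

end Groth.Agent.RegLoc6
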