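import Groth.Agent.RegLoc6.J2

/-!
Criterion for all finite type algebras to have open regular locus.
-/

universe u

namespace Groth.Agent.RegLoc6

/-- If every finite domain over `A` is J-0 then every algebra of finite type has open regular
locus. -/
theorem isOpen_regular_of_finite_j0 (A : Type u) [CommRing A] [IsNoetherianRing A]
    (H : ∀ (A' : Type u) [CommRing A'] [IsDomain A'] [Algebra A A'], Module.Finite A A' → J0 A')
    (S : Type u) [CommRing S] [Algebra A S] [Algebra.FiniteType A S] :
    IsOpen {p : PrimeSpectrum S | IsRegularLocalRing (Localization.AtPrime p.asIdeal)} := by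
  haveI : IsNoetherianRing S := Algebra.FiniteType.isNoetherianRing A S
  refine isOpen_regular_of_forall_quotient fun p _ => ?_
  let T := S ⧸ p.asIdeal
  let P := RingHom.ker (algebraMap A T)
  haveI : P.IsPrime := RingHom.ker_isPrime _
  let A₀ := A ⧸ P
  letI : Algebra A₀ T := (Ideal.Quotient.lift P (algebraMap A T) fun a ha => ha).toAlgebra
  haveI : IsScalarTower A A₀ T := IsScalarTower.of_algebraMap_eq fun a =>
    (Ideal.Quotient.lift_mk _ _ _).symm
  haveI : FaithfulSMul A₀ T := (faithfulSMul_iff_algebraMap_injective A₀ T).mpr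
    (RingHom.lift_injective_of_ker_le_ideal P (fun a ha => ha) le_rfl)
  haveI : Algebra.FiniteType A T :=
    Algebra.FiniteType.of_surjective (Ideal.Quotient.mkₐ A p.asIdeal) Ideal.Quotient.mk_surjective
  haveI : Algebra.FiniteType A₀ T := Algebra.FiniteType.of_restrictScalars_finiteType A A₀ T
  refine j0_iff.mp (J0.of_finiteType_domain (A := A₀) (fun A' _ _ _ h => ?_) T)
  letI : Algebra A A' := ((algebraMap A₀ A').comp (algebraMap A A₀)).toAlgebra
  haveI : IsScalarTower A A₀ A' := IsScalarTower.of_algebraMap_eq fun a => rfl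
  haveI := h
  exact H A' (Module.Finite.trans A₀ A')

end Groth.Agent.RegLoc6
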