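import Groth.Agent.RegLoc6.Basic

/-!
Regular sequences in regular local rings.
-/

universe u

namespace Groth.Agent.RegLoc6

open IsLocalRing RingTheory.Sequence

variable {A : Type u} [CommRing A]

theorem isWeaklyRegular_cons_quot_iff (x : A) (rs : List A) :
    IsWeaklyRegular A (x :: rs) ↔ IsSMulRegular A x ∧
      IsWeaklyRegular (A ⧸ Ideal.span {x}) (rs.map (Ideal.Quotient.mk (Ideal.span {x}))) := by
  have e : QuotSMulTop x A ≃ₗ[A] A ⧸ Ideal.span {x} :=
    Submodule.quotEquivOfEq _ _ (by
      rw [← Submodule.ideal_span_singleton_smul, smul_eq_mul, Ideal.mul_top])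
  rw [isWeaklyRegular_cons_iff, e.isWeaklyRegular_congr, ← Ideal.Quotient.algebraMap_eq,
    isWeaklyRegular_map_algebraMap_iff]

theorem isRegular_iff_weakly [IsLocalRing A] (rs : List A) (h : ∀ r ∈ rs, r ∈ maximalIdeal A)
    (hw : IsWeaklyRegular A rs) : IsRegular A rs := by
  refine ⟨hw, ?_⟩
  rw [smul_eq_mul, Ideal.mul_top, ne_comm]
  intro htop
  refine (maximalIdeal.isMaximal A).ne_top (top_le_iff.mp (htop ▸ ?_))
  exact Ideal.span_le.mpr h

theorem of_quotient_list : ∀ (k : ℕ) (A : Type u) [CommRing A] [IsNoetherianRing A] [IsLocalRing A]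
    (rs : List A), rs.length = k → (∀ r ∈ rs, r ∈ maximalIdeal A) → IsWeaklyRegular A rs →
    IsRegularLocalRing (A ⧸ Ideal.ofList rs) → IsRegularLocalRing A := by
  intro k
  induction k with
  | zero =>
    intro A _ _ _ rs hlen _ _ h
    rw [List.length_eq_zero_iff.mp hlen] at h
    haveI := h
    exact IsRegularLocalRing.of_ringEquiv ((Ideal.quotEquivOfEq Ideal.ofList_nil).trans (RingEquiv.quotientBot A))
  | succ k ih =>
    intro A _ _ _ rs hlen hmem hreg h
    obtain ⟨x, rs', rfl⟩ : ∃ x rs', rs = x :: rs' := by
      match rs, hlen with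
      | x :: rs', _ => exact ⟨x, rs', rfl⟩
    simp only [List.mem_cons, forall_eq_or_imp] at hmem
    rw [isWeaklyRegular_cons_quot_iff] at hreg
    haveI := isLocalRing_quot hmem.1
    let π := Ideal.Quotient.mk (Ideal.span {x})
    have hmem' : ∀ r ∈ rs'.map π, r ∈ maximalIdeal (A ⧸ Ideal.span {x}) := by
      intro r hr
      obtain ⟨a, ha, rfl⟩ := List.mem_map.mp hr
      rw [← map_maximalIdeal_quot]
      exact Ideal.mem_map_of_mem _ (hmem.2 a ha)
    have e : A ⧸ Ideal.ofList (x :: rs') ≃+* (A ⧸ Ideal.span {x}) ⧸ Ideal.ofList (rs'.map π) :=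
      (Ideal.quotEquivOfEq (Ideal.ofList_cons x rs')).trans
        ((DoubleQuot.quotQuotEquivQuotSup _ _).symm.trans
          (Ideal.quotEquivOfEq (Ideal.map_ofList π rs')))
    haveI := h
    haveI := ih (A ⧸ Ideal.span {x}) (rs'.map π) (by simpa using hlen) hmem' hreg.2
      (IsRegularLocalRing.of_ringEquiv e)
    exact of_quotient hmem.1 hreg.1

theorem exists_list_of_quotient : ∀ (k : ℕ) (A : Type u) [CommRing A] [IsRegularLocalRing A]
    (J : Ideal A), (maximalIdeal A).spanFinrank ≤ k → IsRegularLocalRing (A ⧸ J) →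
    ∃ rs : List A, (∀ r ∈ rs, r ∈ maximalIdeal A) ∧ IsWeaklyRegular A rs ∧ Ideal.ofList rs = J := by
  intro k
  induction k with
  | zero =>
    intro A _ _ J hk h
    refine ⟨[], by simp, IsWeaklyRegular.nil A A, ?_⟩
    rw [Ideal.ofList_nil]
    haveI := h
    let : Field A := (isField_of_spanFinrank_eq_zero (Nat.le_zero.mp hk)).toField
    exact ((Ideal.eq_bot_or_top J).resolve_right fun hJ => by
      haveI := (Ideal.Quotient.subsingleton_iff (I := J)).mpr hJ
      exact not_nontrivial (A ⧸ J) inferInstance).symm
  | succ k ih =>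
    intro A _ _ J hk h
    haveI := h
    haveI := isDomain_of_isRegularLocalRing A
    by_cases hJ : J = ⊥
    · exact ⟨[], by simp, IsWeaklyRegular.nil A A, by rw [Ideal.ofList_nil, hJ]⟩
    have hJle : J ≤ maximalIdeal A := IsLocalRing.le_maximalIdeal fun hJt => by
      haveI := (Ideal.Quotient.subsingleton_iff (I := J)).mpr hJt
      exact not_nontrivial (A ⧸ J) inferInstance
    obtain ⟨x, hxJ, hx2⟩ : ∃ x ∈ J, x ∉ maximalIdeal A ^ 2 := by
      by_contra! hc
      obtain ⟨y, hyJ, hy0⟩ := Submodule.exists_mem_ne_zero_of_ne_bot hJ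
      have hlt : ringKrullDim (A ⧸ J) + 1 ≤ ringKrullDim A := by
        refine le_trans (add_le_add_left ?_ 1)
          (ringKrullDim_quotient_succ_le_of_nonZeroDivisor (mem_nonZeroDivisors_of_ne_zero hy0))
        exact ringKrullDim_le_of_surjective (Ideal.Quotient.factor
          ((Ideal.span_singleton_le_iff_mem J).mpr hyJ)) (Ideal.Quotient.factor_surjective _)
      rw [← (isRegularLocalRing_iff A).mp ‹_›, ← (isRegularLocalRing_iff (A ⧸ J)).mp h] at hlt
      have hlt' : (maximalIdeal (A ⧸ J)).spanFinrank + 1 ≤ (maximalIdeal A).spanFinrank := by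
        exact_mod_cast hlt
      -- generators of the quotient lift to generators
      have fg := (maximalIdeal (A ⧸ J)).fg_of_isNoetherianRing
      have fin := Submodule.FG.finite_generators fg
      let t : Set A := Function.surjInv (Ideal.Quotient.mk_surjective (I := J)) ''
        (maximalIdeal (A ⧸ J)).generators
      have h1 : maximalIdeal A ≤ Ideal.span t ⊔ J := by
        have himg : Ideal.Quotient.mk J '' t = (maximalIdeal (A ⧸ J)).generators := by
          simp only [t, Set.image_image, Function.surjInv_eq, Set.image_id']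
        have h1 : (Ideal.span t).map (Ideal.Quotient.mk J) =
            (maximalIdeal A).map (Ideal.Quotient.mk J) := by
          rw [Ideal.map_span, himg, map_maximalIdeal_quot]
          exact (maximalIdeal (A ⧸ J)).span_generators
        have h2 := congrArg (Ideal.comap (Ideal.Quotient.mk J)) h1
        rw [Ideal.comap_map_of_surjective _ Ideal.Quotient.mk_surjective,
          Ideal.comap_map_of_surjective _ Ideal.Quotient.mk_surjective, ← RingHom.ker_eq_comap_bot,
          Ideal.mk_ker] at h2
        exact h2 ▸ le_sup_left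
      have h2 : maximalIdeal A ≤ Ideal.span t := by
        refine Submodule.le_of_le_smul_of_le_jacobson_bot (maximalIdeal A).fg_of_isNoetherianRing
          (IsLocalRing.maximalIdeal_le_jacobson _) (h1.trans (sup_le_sup_left (fun a ha => ?_) _))
        rw [smul_eq_mul, ← sq]
        exact hc a ha
      have htle : Ideal.span t ≤ maximalIdeal A := by
        rw [Ideal.span_le]
        rintro _ ⟨g, hg, rfl⟩
        have : g ∈ maximalIdeal (A ⧸ J) :=
          (maximalIdeal (A ⧸ J)).span_generators ▸ Submodule.subset_span hg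
        by_contra hu
        obtain ⟨v, hv⟩ := IsLocalRing.notMem_maximalIdeal.mp hu
        refine this ?_
        rw [← Function.surjInv_eq Ideal.Quotient.mk_surjective g, ← hv]
        exact v.isUnit.map _
      have h3 : (maximalIdeal A).spanFinrank ≤ (maximalIdeal (A ⧸ J)).spanFinrank := by
        rw [le_antisymm h2 htle]
        exact (Submodule.spanFinrank_span_le_ncard_of_finite (fin.image _)).trans
          ((Set.ncard_image_le fin).trans (Submodule.FG.generators_ncard fg).le)
      omega
    have hxm := hJle hxJ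
    haveI := isLocalRing_quot hxm
    haveI := (isRegularLocalRing_quot_and hxm hx2).1
    let π := Ideal.Quotient.mk (Ideal.span {x})
    have hxle : Ideal.span {x} ≤ J := (Ideal.span_singleton_le_iff_mem J).mpr hxJ
    obtain ⟨rs, hmem, hreg, hrs⟩ := ih (A ⧸ Ideal.span {x}) (J.map π)
      (by have := spanFinrank_quot_le hxm hx2; omega)
      (IsRegularLocalRing.of_ringEquiv (DoubleQuot.quotQuotEquivQuotOfLE hxle).symm)
    let lift := Function.surjInv (Ideal.Quotient.mk_surjective (I := Ideal.span {x}))
    have hmap : (rs.map lift).map π = rs := by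
      rw [List.map_map]
      exact (List.map_congr_left fun a _ => Function.surjInv_eq _ a).trans (List.map_id' rs)
    refine ⟨x :: rs.map lift, ?_, ?_, ?_⟩
    · simp only [List.mem_cons, forall_eq_or_imp, List.mem_map, forall_exists_index, and_imp,
        forall_apply_eq_imp_iff₂]
      refine ⟨hxm, fun a ha => ?_⟩
      by_contra hu
      obtain ⟨v, hv⟩ := IsLocalRing.notMem_maximalIdeal.mp hu
      refine hmem a ha ?_
      rw [← Function.surjInv_eq Ideal.Quotient.mk_surjective a]
      show IsUnit (π (lift a))
      rw [← hv]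
      exact v.isUnit.map _
    · rw [isWeaklyRegular_cons_quot_iff, hmap]
      exact ⟨isSMulRegular_of_notMem_sq hx2, hreg⟩
    · have h1 : (Ideal.ofList (rs.map lift)).map π = J.map π := by
        rw [Ideal.map_ofList, hmap, hrs]
      have h2 := congrArg (Ideal.comap π) h1
      rw [Ideal.comap_map_of_surjective _ Ideal.Quotient.mk_surjective,
        Ideal.comap_map_of_surjective _ Ideal.Quotient.mk_surjective, ← RingHom.ker_eq_comap_bot,
        Ideal.mk_ker, sup_eq_left.mpr hxle] at h2
      rw [Ideal.ofList_cons, sup_comm, h2]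

/-- A quotient `A/J` of a regular local ring is regular iff ... : the maximal ideal is generated
by a regular sequence. -/
theorem exists_regularSequence_maximalIdeal (A : Type u) [CommRing A] [IsRegularLocalRing A] :
    ∃ rs : List A, IsRegular A rs ∧ Ideal.ofList rs = maximalIdeal A := by
  haveI : IsNoetherianRing (A ⧸ maximalIdeal A) := inferInstance
  have h : IsRegularLocalRing (A ⧸ maximalIdeal A) := by
    let : Field (A ⧸ maximalIdeal A) := Ideal.Quotient.field _
    exact inferInstance
  obtain ⟨rs, hmem, hreg, hrs⟩ := exists_list_of_quotient _ A (maximalIdeal A) le_rfl h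
  exact ⟨rs, isRegular_iff_weakly rs hmem hreg, hrs⟩

end Groth.Agent.RegLoc6
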