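import Groth.Agent.RegLoc6.Serre
import Mathlib.RingTheory.Localization.AtPrime.Basic
import Mathlib.RingTheory.Spectrum.Prime.Topology

/-!
Nagata's criterion for the openness of the regular locus.
-/

universe u

namespace Groth.Agent.RegLoc6

open IsLocalRing

variable {A : Type u} [CommRing A]

/-- Localisation commutes with quotients. -/
theorem exists_quotLocalEquiv (I : Ideal A) (q : Ideal A) [q.IsPrime] (q' : Ideal (A ⧸ I))
    [q'.IsPrime] (h : q'.comap (Ideal.Quotient.mk I) = q) :
    Nonempty (Localization.AtPrime q ⧸ I.map (algebraMap A (Localization.AtPrime q)) ≃+*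
      Localization.AtPrime q') := by
  let φ := Localization.localRingHom q q' (Ideal.Quotient.mk I) h.symm
  have hsurj : Function.Surjective φ := by
    intro z
    obtain ⟨a, s, rfl⟩ := IsLocalization.exists_mk'_eq q'.primeCompl z
    obtain ⟨a, rfl⟩ := Ideal.Quotient.mk_surjective a
    obtain ⟨s', hs'⟩ := s
    obtain ⟨s, rfl⟩ := Ideal.Quotient.mk_surjective s'
    exact ⟨IsLocalization.mk' _ a (⟨s, fun hs => hs' (by subst h; exact hs)⟩ : q.primeCompl),
      Localization.localRingHom_mk' q q' _ h.symm _ _⟩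
  have hker : RingHom.ker φ = I.map (algebraMap A (Localization.AtPrime q)) := by
    refine le_antisymm (fun z hz => ?_) ?_
    · obtain ⟨a, s, rfl⟩ := IsLocalization.exists_mk'_eq q.primeCompl z
      rw [RingHom.mem_ker, Localization.localRingHom_mk', IsLocalization.mk'_eq_zero_iff] at hz
      obtain ⟨⟨t', ht'⟩, ht⟩ := hz
      obtain ⟨t, rfl⟩ := Ideal.Quotient.mk_surjective t'
      rw [← map_mul, Ideal.Quotient.eq_zero_iff_mem] at ht
      have htq : t ∉ q := fun hh => ht' (by subst h; exact hh)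
      have hu : IsUnit (algebraMap A (Localization.AtPrime q) t) :=
        IsLocalization.map_units _ (⟨t, htq⟩ : q.primeCompl)
      have ha : algebraMap A (Localization.AtPrime q) a ∈
          I.map (algebraMap A (Localization.AtPrime q)) := by
        have := Ideal.mem_map_of_mem (algebraMap A (Localization.AtPrime q)) ht
        rw [map_mul] at this
        exact (Ideal.unit_mul_mem_iff_mem _ hu).mp this
      rw [IsLocalization.mk'_eq_mul_mk'_one]
      exact Ideal.mul_mem_right _ _ ha
    · rw [Ideal.map_le_iff_le_comap]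
      intro a ha
      simp [φ, Ideal.Quotient.eq_zero_iff_mem.mpr ha]
  exact ⟨(Ideal.quotEquivOfEq hker.symm).trans (RingHom.quotientKerEquivOfSurjective hsurj)⟩

theorem exists_smul_regular_away [IsNoetherianRing A] (p : Ideal A) [p.IsPrime] (x : A)
    (hx : IsSMulRegular (Localization.AtPrime p) (algebraMap A (Localization.AtPrime p) x)) :
    ∃ f ∉ p, ∀ q : Ideal A, ∀ [q.IsPrime], f ∉ q →
      IsSMulRegular (Localization.AtPrime q) (algebraMap A (Localization.AtPrime q) x) := by
  classical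
  let N : Ideal A := LinearMap.ker (LinearMap.lsmul A A x)
  obtain ⟨s, hs⟩ := N.fg_of_isNoetherianRing
  have hex : ∀ a ∈ s, ∃ t ∉ p, t * a = 0 := by
    intro a ha
    have haN' : a ∈ N := by rw [← hs]; exact Submodule.subset_span ha
    have haN : x * a = 0 := haN'
    have : algebraMap A (Localization.AtPrime p) a = 0 := by
      refine isSMulRegular_iff_right_eq_zero_of_smul.mp hx _ ?_
      rw [smul_eq_mul, ← map_mul, haN, map_zero]
    obtain ⟨⟨t, ht⟩, h⟩ := (IsLocalization.map_eq_zero_iff p.primeCompl _ _).mp this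
    exact ⟨t, ht, h⟩
  choose! t ht1 ht2 using hex
  refine ⟨∏ a ∈ s, t a, show _ ∈ p.primeCompl from prod_mem fun a ha => ht1 a ha, ?_⟩
  intro q _ hfq
  rw [isSMulRegular_iff_right_eq_zero_of_smul]
  intro z hz
  obtain ⟨a, u, rfl⟩ := IsLocalization.exists_mk'_eq q.primeCompl z
  rw [smul_eq_mul, IsLocalization.mul_mk'_eq_mk'_of_mul, IsLocalization.mk'_eq_zero_iff] at hz
  obtain ⟨⟨v, hv⟩, h⟩ := hz
  have hN : v * a ∈ N := by
    show x • (v * a) = 0
    rw [smul_eq_mul, mul_left_comm]; exact h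
  have hkill : ∀ y ∈ N, (∏ b ∈ s, t b) * y = 0 := by
    intro y hy
    rw [← hs] at hy
    induction hy using Submodule.span_induction with
    | mem b hb =>
      obtain ⟨c, hc⟩ := Finset.dvd_prod_of_mem t hb
      rw [hc, mul_comm (t b), mul_assoc, ht2 b hb, mul_zero]
    | zero => rw [mul_zero]
    | add b c _ _ hb hc => rw [mul_add, hb, hc, add_zero]
    | smul c b _ hb => rw [smul_eq_mul, mul_left_comm, hb, mul_zero]
  rw [IsLocalization.mk'_eq_zero_iff]
  exact ⟨⟨_, show _ ∈ q.primeCompl from fun hh => ((Ideal.IsPrime.mem_or_mem ‹_› hh).elim hfq hv)⟩,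
    by rw [mul_assoc]; exact hkill _ hN⟩

theorem lift_regular_aux : ∀ (n : ℕ) (A : Type u) [CommRing A] [IsNoetherianRing A] (p : Ideal A)
    [p.IsPrime], IsRegularLocalRing (Localization.AtPrime p) →
    (maximalIdeal (Localization.AtPrime p)).spanFinrank ≤ n →
    ∃ f ∉ p, ∀ (q : Ideal A) [q.IsPrime] (q' : Ideal (A ⧸ p)) [q'.IsPrime],
      q'.comap (Ideal.Quotient.mk p) = q → f ∉ q →
      IsRegularLocalRing (Localization.AtPrime q') → IsRegularLocalRing (Localization.AtPrime q) := by
  intro n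
  induction n with
  | zero =>
    intro A _ _ p _ hreg hn
    classical
    have h0 : maximalIdeal (Localization.AtPrime p) = ⊥ :=
      (Submodule.spanFinrank_eq_zero_iff_eq_bot (maximalIdeal _).fg_of_isNoetherianRing).mp
        (Nat.le_zero.mp hn)
    obtain ⟨s, hs⟩ := p.fg_of_isNoetherianRing
    have hex : ∀ a ∈ s, ∃ t ∉ p, t * a = 0 := by
      intro a ha
      have : algebraMap A (Localization.AtPrime p) a = 0 := by
        rw [← Ideal.mem_bot, ← h0, IsLocalization.AtPrime.to_map_mem_maximal_iff _ p]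
        exact hs ▸ Submodule.subset_span ha
      obtain ⟨⟨t, ht⟩, h⟩ := (IsLocalization.map_eq_zero_iff p.primeCompl _ _).mp this
      exact ⟨t, ht, h⟩
    choose! t ht1 ht2 using hex
    refine ⟨∏ a ∈ s, t a, show _ ∈ p.primeCompl from prod_mem fun a ha => ht1 a ha, ?_⟩
    intro q _ q' _ hq hfq hr
    obtain ⟨e⟩ := exists_quotLocalEquiv p q q' hq
    have hp0 : p.map (algebraMap A (Localization.AtPrime q)) = ⊥ := by
      rw [← hs, Ideal.map_span, Submodule.span_eq_bot]
      rintro _ ⟨a, ha, rfl⟩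
      refine (IsLocalization.map_eq_zero_iff q.primeCompl _ _).mpr ⟨⟨_, hfq⟩, ?_⟩
      obtain ⟨c, hc⟩ := Finset.dvd_prod_of_mem t ha
      show (∏ b ∈ s, t b) * a = 0
      rw [hc, mul_comm (t a), mul_assoc, ht2 a ha, mul_zero]
    exact IsRegularLocalRing.of_ringEquiv
      (((RingEquiv.quotientBot _).symm.trans (Ideal.quotEquivOfEq hp0.symm)).trans e).symm
  | succ n ih =>
    intro A _ _ p _ hreg hn
    by_cases hf : IsField (Localization.AtPrime p)
    · exact ih A p hreg (by
        rw [IsLocalRing.isField_iff_maximalIdeal_eq.mp hf, Submodule.spanFinrank_bot]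
        exact Nat.zero_le n)
    obtain ⟨z, hz, hz2⟩ := SetLike.not_le_iff_exists.mp (maximalIdeal_sq_ne hf)
    obtain ⟨x, s, rfl⟩ := IsLocalization.exists_mk'_eq p.primeCompl z
    have hu : IsUnit (IsLocalization.mk' (Localization.AtPrime p) (1 : A) s) :=
      IsUnit.of_mul_eq_one _ (by rw [IsLocalization.mk'_spec, map_one])
    rw [IsLocalization.mk'_eq_mul_mk'_one, Ideal.mul_unit_mem_iff_mem _ hu] at hz hz2
    rw [IsLocalization.AtPrime.to_map_mem_maximal_iff _ p] at hz
    let I := Ideal.span {x}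
    have hIp : I ≤ p := (Ideal.span_singleton_le_iff_mem _).mpr hz
    have hker : RingHom.ker (Ideal.Quotient.mk I) ≤ p := by rw [Ideal.mk_ker]; exact hIp
    let p' := p.map (Ideal.Quotient.mk I)
    haveI : p'.IsPrime := Ideal.map_isPrime_of_surjective Ideal.Quotient.mk_surjective hker
    have hp' : p'.comap (Ideal.Quotient.mk I) = p := by
      rw [Ideal.comap_map_of_surjective _ Ideal.Quotient.mk_surjective,
        ← RingHom.ker_eq_comap_bot, sup_eq_left.mpr hker]
    obtain ⟨e⟩ := exists_quotLocalEquiv I p p' hp'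
    have hxm : algebraMap A (Localization.AtPrime p) x ∈ maximalIdeal (Localization.AtPrime p) :=
      (IsLocalization.AtPrime.to_map_mem_maximal_iff _ p x).mpr hz
    have hImap : I.map (algebraMap A (Localization.AtPrime p)) =
        Ideal.span {algebraMap A (Localization.AtPrime p) x} := by
      rw [Ideal.map_span, Set.image_singleton]
    haveI := hreg
    haveI := (isRegularLocalRing_quot_and hxm hz2).1
    have e' := (Ideal.quotEquivOfEq hImap.symm).trans e
    have hreg' := IsRegularLocalRing.of_ringEquiv e'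
    have hn' : (maximalIdeal (Localization.AtPrime p')).spanFinrank ≤ n := by
      rw [← IsLocalRing.map_ringEquiv_maximalIdeal e', Ideal.spanFinrank_map_eq_of_ringEquiv]
      have := spanFinrank_quot_le hxm hz2
      omega
    obtain ⟨f', hf', hf'q⟩ := ih (A ⧸ I) p' hreg' hn'
    obtain ⟨f₁, hf₁, hf₁q⟩ := exists_smul_regular_away p x (isSMulRegular_of_notMem_sq hz2)
    obtain ⟨f₂, rfl⟩ := Ideal.Quotient.mk_surjective f'
    have hf₂ : f₂ ∉ p := fun h => hf' (Ideal.mem_map_of_mem _ h)
    refine ⟨f₁ * f₂, fun h => (Ideal.IsPrime.mem_or_mem ‹_› h).elim hf₁ hf₂, ?_⟩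
    intro q _ q' _ hq hfq hr
    have hpq : p ≤ q := fun a ha => by
      rw [← hq, Ideal.mem_comap, Ideal.Quotient.eq_zero_iff_mem.mpr ha]
      exact q'.zero_mem
    have hkerq : RingHom.ker (Ideal.Quotient.mk I) ≤ q := hker.trans hpq
    let q₁ := q.map (Ideal.Quotient.mk I)
    haveI : q₁.IsPrime := Ideal.map_isPrime_of_surjective Ideal.Quotient.mk_surjective hkerq
    have hq₁ : q₁.comap (Ideal.Quotient.mk I) = q := by
      rw [Ideal.comap_map_of_surjective _ Ideal.Quotient.mk_surjective,
        ← RingHom.ker_eq_comap_bot, sup_eq_left.mpr hkerq]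
    let eA : (A ⧸ I) ⧸ p' ≃+* A ⧸ p := DoubleQuot.quotQuotEquivQuotOfLE hIp
    let q₂ := q'.comap eA
    haveI : q₂.IsPrime := Ideal.IsPrime.comap _
    have hq₂ : q₂.comap (Ideal.Quotient.mk p') = q₁ := by
      refine Ideal.comap_injective_of_surjective _ Ideal.Quotient.mk_surjective ?_
      rw [hq₁, ← hq]
      ext a
      rfl
    have hr₂ : IsRegularLocalRing (Localization.AtPrime q₂) :=
      IsRegularLocalRing.of_ringEquiv (IsLocalization.ringEquivOfRingEquiv
        (Localization.AtPrime q₂) (Localization.AtPrime q') eA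
        (eA.map_primeCompl_comap_eq q')).symm
    have hf₂q : Ideal.Quotient.mk I f₂ ∉ q₁ := fun h => hfq (q.mul_mem_left _ (by
      rw [← hq₁]; exact h))
    have hR₁ := hf'q q₁ q₂ hq₂ hf₂q hr₂
    obtain ⟨eq⟩ := exists_quotLocalEquiv I q q₁ hq₁
    have hImapq : I.map (algebraMap A (Localization.AtPrime q)) =
        Ideal.span {algebraMap A (Localization.AtPrime q) x} := by
      rw [Ideal.map_span, Set.image_singleton]
    haveI := IsRegularLocalRing.of_ringEquiv ((Ideal.quotEquivOfEq hImapq.symm).trans eq).symm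
    exact of_quotient ((IsLocalization.AtPrime.to_map_mem_maximal_iff _ q x).mpr (hpq hz))
      (hf₁q q fun h => hfq (q.mul_mem_right _ h))

/-- If `A_p` is regular then, near `p`, regularity of `A/p` implies regularity of `A`. -/
theorem exists_lift_regular [IsNoetherianRing A] (p : Ideal A) [p.IsPrime]
    (h : IsRegularLocalRing (Localization.AtPrime p)) :
    ∃ f ∉ p, ∀ (q : Ideal A) [q.IsPrime] (q' : Ideal (A ⧸ p)) [q'.IsPrime],
      q'.comap (Ideal.Quotient.mk p) = q → f ∉ q →
      IsRegularLocalRing (Localization.AtPrime q') → IsRegularLocalRing (Localization.AtPrime q) :=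
  lift_regular_aux _ A p h le_rfl

theorem regular_of_le [IsNoetherianRing A] {p q : Ideal A} [p.IsPrime] [q.IsPrime] (hpq : p ≤ q)
    (h : IsRegularLocalRing (Localization.AtPrime q)) :
    IsRegularLocalRing (Localization.AtPrime p) := by
  haveI := h
  have hd : Disjoint (q.primeCompl : Set A) (p : Set A) :=
    Set.disjoint_left.mpr fun a ha hap => ha (hpq hap)
  let P := p.map (algebraMap A (Localization.AtPrime q))
  haveI : P.IsPrime := IsLocalization.isPrime_of_isPrime_disjoint q.primeCompl _ p ‹_› hd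
  haveI : IsLocalization.AtPrime (Localization.AtPrime P) p := by
    convert IsLocalization.isLocalization_isLocalization_atPrime_isLocalization q.primeCompl
      (Localization.AtPrime P) P
    exact (IsLocalization.under_map_of_isPrime_disjoint q.primeCompl _ ‹_› hd).symm
  haveI := isRegularLocalRing_localization (Localization.AtPrime q) P
  exact IsRegularLocalRing.of_ringEquiv
    (IsLocalization.algEquiv p.primeCompl (Localization.AtPrime P) (Localization.AtPrime p)).toRingEquiv

/-- A set of primes of a Noetherian ring which is stable under generalisation and which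
contains a neighbourhood of each of its points in the closure of that point is open. -/
theorem isOpen_of_forall_generic [IsNoetherianRing A] (U : Set (PrimeSpectrum A))
    (hgen : ∀ x y : PrimeSpectrum A, x.asIdeal ≤ y.asIdeal → y ∈ U → x ∈ U)
    (hloc : ∀ x ∈ U, ∃ f ∉ x.asIdeal, ∀ y : PrimeSpectrum A,
      x.asIdeal ≤ y.asIdeal → f ∉ y.asIdeal → y ∈ U) : IsOpen U := by
  rw [← isClosed_compl_iff, ← closure_subset_iff_isClosed]
  intro y hy
  rw [← PrimeSpectrum.zeroLocus_vanishingIdeal_eq_closure] at hy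
  set I := PrimeSpectrum.vanishingIdeal Uᶜ with hI
  obtain ⟨q, hq, hqy⟩ := Ideal.exists_minimalPrimes_le
    (show I ≤ y.asIdeal from fun a ha => hy ha)
  haveI hqp : q.IsPrime := hq.1.1
  intro hyU
  obtain ⟨f, hf, hfU⟩ := hloc ⟨q, hqp⟩ (hgen ⟨q, hqp⟩ y hqy hyU)
  classical
  let others := (I.finite_minimalPrimes_of_isNoetherianRing A).toFinset.erase q
  obtain ⟨g, hg, hgq⟩ : ∃ g, (∀ r ∈ others, g ∈ r) ∧ g ∉ q := by
    have : ∀ r ∈ others, ∃ a ∈ r, a ∉ q := by
      intro r hr
      obtain ⟨hne, hr⟩ := Finset.mem_erase.mp hr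
      have hr' := (Set.Finite.mem_toFinset _).mp hr
      by_contra! hc
      exact hne (le_antisymm hc (hq.2 hr'.1 hc))
    choose! a ha1 ha2 using this
    refine ⟨∏ r ∈ others, a r, fun r hr => Ideal.prod_mem _ hr (ha1 r hr), ?_⟩
    exact show _ ∈ q.primeCompl from prod_mem fun r hr => ha2 r hr
  have hfg : f * g ∉ q := fun h => (hqp.mem_or_mem h).elim hf hgq
  obtain ⟨z, hzU, hzfg⟩ : ∃ z ∈ Uᶜ, f * g ∉ PrimeSpectrum.asIdeal z := by
    by_contra! hc
    exact hfg (hq.1.2 (show f * g ∈ I from (PrimeSpectrum.mem_vanishingIdeal _ _).mpr hc))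
  obtain ⟨r, hr, hrz⟩ := Ideal.exists_minimalPrimes_le
    (show I ≤ z.asIdeal from fun a ha => (PrimeSpectrum.mem_vanishingIdeal _ _).mp ha z hzU)
  by_cases hrq : r = q
  · exact hzU (hfU z (hrq ▸ hrz) fun h => hzfg (z.asIdeal.mul_mem_right _ h))
  · exact hzfg (z.asIdeal.mul_mem_left _ (hrz (hg r (Finset.mem_erase.mpr
      ⟨hrq, (Set.Finite.mem_toFinset _).mpr hr⟩))))

/-- Nagata's criterion. -/
theorem isOpen_regular_of_forall_quotient [IsNoetherianRing A]
    (H : ∀ p : PrimeSpectrum A, IsRegularLocalRing (Localization.AtPrime p.asIdeal) →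
      ∃ W : Set (PrimeSpectrum (A ⧸ p.asIdeal)), IsOpen W ∧ W.Nonempty ∧
        ∀ w ∈ W, IsRegularLocalRing (Localization.AtPrime w.asIdeal)) :
    IsOpen {p : PrimeSpectrum A | IsRegularLocalRing (Localization.AtPrime p.asIdeal)} := by
  refine isOpen_of_forall_generic _ (fun x y hxy hy => regular_of_le hxy hy) fun x hx => ?_
  obtain ⟨W, hWo, ⟨w₀, hw₀⟩, hW⟩ := H x hx
  obtain ⟨_, ⟨g', rfl⟩, hgw, hgW⟩ :=
    PrimeSpectrum.isTopologicalBasis_basic_opens.exists_subset_of_mem_open hw₀ hWo
  obtain ⟨g, rfl⟩ := Ideal.Quotient.mk_surjective g'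
  obtain ⟨f, hf, hfq⟩ := exists_lift_regular x.asIdeal hx
  have hg : g ∉ x.asIdeal := fun h => hgw (by
    rw [Ideal.Quotient.eq_zero_iff_mem.mpr h]; exact w₀.asIdeal.zero_mem)
  refine ⟨f * g, fun h => (x.isPrime.mem_or_mem h).elim hf hg, fun y hxy hy => ?_⟩
  have hker : RingHom.ker (Ideal.Quotient.mk x.asIdeal) ≤ y.asIdeal := by
    rw [Ideal.mk_ker]; exact hxy
  haveI := Ideal.map_isPrime_of_surjective (f := Ideal.Quotient.mk x.asIdeal)
    Ideal.Quotient.mk_surjective hker
  have hy' : (y.asIdeal.map (Ideal.Quotient.mk x.asIdeal)).comap (Ideal.Quotient.mk x.asIdeal) =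
      y.asIdeal := by
    rw [Ideal.comap_map_of_surjective _ Ideal.Quotient.mk_surjective,
      ← RingHom.ker_eq_comap_bot, sup_eq_left.mpr hker]
  refine hfq y.asIdeal _ hy' (fun h => hy (y.asIdeal.mul_mem_right _ h))
    (hW ⟨_, ‹_›⟩ (hgW fun h => hy (y.asIdeal.mul_mem_left _ ?_)))
  rw [← hy']; exact h

end Groth.Agent.RegLoc6
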