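import Groth.Agent.RegLoc6.Basic
import Groth.Agent.RegLoc6.Pd

/-!
Projective dimension along the quotient by a regular element.
-/

universe u

namespace Groth.Agent.RegLoc6

open IsLocalRing Submodule TensorProduct

variable {R : Type u} [CommRing R]

section

variable {M : Type u} [AddCommGroup M] [Module R M]

theorem pdLE_succ_restrict {x : R} (hreg : IsSMulRegular R x) :
    ∀ (n : ℕ) (M : Type u) [AddCommGroup M] [Module R M] [Module (R ⧸ Ideal.span {x}) M]
      [IsScalarTower R (R ⧸ Ideal.span {x}) M] [Module.Finite (R ⧸ Ideal.span {x}) M]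
      [IsNoetherianRing R],
      PdLE (R ⧸ Ideal.span {x}) n M → PdLE R (n + 1) M := by
  intro n
  induction n with
  | zero =>
    intro M _ _ _ _ _ _ h
    haveI : Module.Projective (R ⧸ Ideal.span {x}) M := pdLE_zero_iff.mp h
    obtain ⟨k, g, hg⟩ := exists_presentation (R := R ⧸ Ideal.span {x}) (M := M)
    obtain ⟨i, hi⟩ := Module.projective_lifting_property g LinearMap.id hg
    refine pdLE_of_retract (i.restrictScalars R) (g.restrictScalars R)
      (LinearMap.ext fun m => LinearMap.congr_fun hi m) ?_
    let π : (Fin k → R) →ₗ[R] (Fin k → R ⧸ Ideal.span {x}) :=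
      LinearMap.pi fun i => (Submodule.mkQ (Ideal.span {x})).comp (LinearMap.proj i)
    have hπ : Function.Surjective π := fun v =>
      ⟨fun i => Function.surjInv Ideal.Quotient.mk_surjective (v i),
        funext fun i => Function.surjInv_eq Ideal.Quotient.mk_surjective (v i)⟩
    let m : (Fin k → R) →ₗ[R] (Fin k → R) := x • LinearMap.id
    have hm : Function.Injective m := fun a b h => funext fun i => hreg (congrFun h i)
    have hk : LinearMap.range m = LinearMap.ker π := by
      ext v
      constructor
      · rintro ⟨w, rfl⟩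
        exact funext fun i => (Submodule.Quotient.mk_eq_zero _).mpr
          (Ideal.mem_span_singleton.mpr (dvd_mul_right x (w i)))
      · intro hv
        have : ∀ i, x ∣ v i := fun i =>
          Ideal.mem_span_singleton.mp ((Submodule.Quotient.mk_eq_zero _).mp (congrFun hv i))
        choose w hw using this
        exact ⟨w, funext fun i => (hw i).symm⟩
    exact pdLE_succ_of_ker π hπ
      (pdLE_of_equiv ((LinearEquiv.ofInjective m hm).trans (LinearEquiv.ofEq _ _ hk))
        (pdLE_of_projective 0)) (pdLE_of_projective 1)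
  | succ n ih =>
    intro M _ _ _ _ _ _ h
    obtain ⟨k, g, hg⟩ := exists_presentation (R := R ⧸ Ideal.span {x}) (M := M)
    have hK : PdLE (R ⧸ Ideal.span {x}) n (LinearMap.ker g) := (pdLE_succ_iff g hg).mp h
    have hF : PdLE R (n + 1) (Fin k → R ⧸ Ideal.span {x}) :=
      ih _ (pdLE_of_projective n)
    refine pdLE_succ_of_ker (g.restrictScalars R) hg ?_ (pdLE_mono (Nat.le_succ _) hF)
    exact pdLE_of_equiv
      { toFun := fun v => ⟨v.1, v.2⟩
        invFun := fun v => ⟨v.1, v.2⟩
        map_add' := fun _ _ => rfl
        map_smul' := fun _ _ => rfl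
        left_inv := fun _ => rfl
        right_inv := fun _ => rfl }
      (ih (LinearMap.ker g) hK)

theorem projective_quotient (I : Ideal R) [Module.Projective R M] :
    Module.Projective (R ⧸ I) (M ⧸ (I • ⊤ : Submodule R M)) :=
  Module.Projective.of_equiv
    ((TensorProduct.quotTensorEquivQuotSMul M I).extendScalarsOfSurjective
      Ideal.Quotient.mk_surjective)

theorem pdLE_quotient {x : R} [IsNoetherianRing R] (hR : IsSMulRegular R x) :
    ∀ (n : ℕ) (M : Type u) [AddCommGroup M] [Module R M] [Module.Finite R M],
      IsSMulRegular M x → PdLE R n M →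
      PdLE (R ⧸ Ideal.span {x}) n (M ⧸ (Ideal.span {x} • ⊤ : Submodule R M)) := by
  intro n
  induction n with
  | zero =>
    intro M _ _ _ _ h
    haveI : Module.Projective R M := pdLE_zero_iff.mp h
    exact pdLE_zero_iff.mpr (projective_quotient _)
  | succ n ih =>
    intro M _ _ _ hM h
    obtain ⟨k, g, hg⟩ := exists_presentation (R := R) (M := M)
    let I := Ideal.span {x}
    have hK : PdLE R n (LinearMap.ker g) := (pdLE_succ_iff g hg).mp h
    have hKreg : IsSMulRegular (LinearMap.ker g) x := fun a b hab =>
      Subtype.ext (funext fun i => hR (congrFun (congrArg Subtype.val hab) i))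
    have ih' := ih (LinearMap.ker g) hKreg hK
    have hle : (I • ⊤ : Submodule R (Fin k → R)) ≤ (I • ⊤ : Submodule R M).comap g := by
      rw [← Submodule.map_le_iff_le_comap, Submodule.map_smul'']
      exact Submodule.smul_mono le_rfl le_top
    have hle' : (I • ⊤ : Submodule R (LinearMap.ker g)) ≤
        (I • ⊤ : Submodule R (Fin k → R)).comap (LinearMap.ker g).subtype := by
      rw [← Submodule.map_le_iff_le_comap, Submodule.map_smul'']
      exact Submodule.smul_mono le_rfl le_top
    let gq : ((Fin k → R) ⧸ (I • ⊤ : Submodule R (Fin k → R))) →ₗ[R ⧸ I]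
        (M ⧸ (I • ⊤ : Submodule R M)) :=
      (Submodule.mapQ _ _ g hle).extendScalarsOfSurjective Ideal.Quotient.mk_surjective
    let ι : (LinearMap.ker g ⧸ (I • ⊤ : Submodule R (LinearMap.ker g))) →ₗ[R ⧸ I]
        ((Fin k → R) ⧸ (I • ⊤ : Submodule R (Fin k → R))) :=
      (Submodule.mapQ _ _ (LinearMap.ker g).subtype hle').extendScalarsOfSurjective
        Ideal.Quotient.mk_surjective
    have hgq : Function.Surjective gq := fun v => by
      obtain ⟨m, rfl⟩ := Submodule.Quotient.mk_surjective _ v
      obtain ⟨a, rfl⟩ := hg m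
      exact ⟨Submodule.Quotient.mk a, rfl⟩
    have hι : Function.Injective ι := by
      refine (injective_iff_map_eq_zero ι).mpr fun v hv => ?_
      obtain ⟨a, rfl⟩ := Submodule.Quotient.mk_surjective _ v
      have ha : (a : Fin k → R) ∈ (I • ⊤ : Submodule R (Fin k → R)) :=
        (Submodule.Quotient.mk_eq_zero _).mp hv
      rw [Submodule.ideal_span_singleton_smul, Submodule.mem_smul_pointwise_iff_exists] at ha
      obtain ⟨b, -, hb⟩ := ha
      have hb' : b ∈ LinearMap.ker g := by
        rw [LinearMap.mem_ker]
        exact isSMulRegular_iff_right_eq_zero_of_smul.mp hM _ (by rw [← map_smul, hb]; exact a.2)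
      rw [Submodule.Quotient.mk_eq_zero]
      have : a = x • (⟨b, hb'⟩ : LinearMap.ker g) := Subtype.ext hb.symm
      rw [this]
      exact Submodule.smul_mem_smul (Ideal.mem_span_singleton_self x) Submodule.mem_top
    have hrange : LinearMap.range ι = LinearMap.ker gq := by
      ext v
      constructor
      · rintro ⟨w, rfl⟩
        obtain ⟨a, rfl⟩ := Submodule.Quotient.mk_surjective _ w
        show (Submodule.Quotient.mk (g a.1) : M ⧸ (I • ⊤ : Submodule R M)) = 0
        rw [show g a.1 = 0 from a.2, Submodule.Quotient.mk_zero]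
      · intro hv
        obtain ⟨a, rfl⟩ := Submodule.Quotient.mk_surjective _ v
        have ha : g a ∈ (I • ⊤ : Submodule R M) := (Submodule.Quotient.mk_eq_zero _).mp hv
        rw [Submodule.ideal_span_singleton_smul, Submodule.mem_smul_pointwise_iff_exists] at ha
        obtain ⟨m, -, hm⟩ := ha
        obtain ⟨b, rfl⟩ := hg m
        refine ⟨Submodule.Quotient.mk ⟨a - x • b, by
          rw [LinearMap.mem_ker, map_sub, map_smul, hm, sub_self]⟩, ?_⟩
        show (Submodule.Quotient.mk (a - x • b) : (Fin k → R) ⧸ (I • ⊤ : Submodule R (Fin k → R))) = _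
        rw [Submodule.Quotient.eq, sub_sub_cancel_left]
        exact Submodule.neg_mem _
          (Submodule.smul_mem_smul (Ideal.mem_span_singleton_self x) Submodule.mem_top)
    haveI := projective_quotient (M := Fin k → R) I
    exact (pdLE_succ_iff gq hgq).mpr
      (pdLE_of_equiv ((LinearEquiv.ofInjective ι hι).trans (LinearEquiv.ofEq _ _ hrange)) ih')

end

end Groth.Agent.RegLoc6
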