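import Groth.Agent.RegLoc6.RegEtale
import Groth.Agent.S9255
import Mathlib.FieldTheory.PurelyInseparable.PerfectClosure
import Mathlib.RingTheory.AlgebraicIndependent.TranscendenceBasis
import Mathlib.RingTheory.AlgebraicIndependent.AlgebraicClosure
import Mathlib.FieldTheory.IsAlgClosed.AlgebraicClosure
import Mathlib.RingTheory.Etale.Field
import Mathlib.RingTheory.Adjoin.Tower
import Mathlib.FieldTheory.SeparableClosure

/-!
The regular locus of algebras of finite type: reduction to finite algebras.
-/

universe u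

namespace Groth.Agent.RegLoc6

open Polynomial

attribute [local instance] FractionRing.liftAlgebra

theorem J0.of_separable {B T : Type u} [CommRing B] [IsDomain B] [IsNoetherianRing B] [CommRing T]
    [IsDomain T] [Algebra B T] [FaithfulSMul B T] [Algebra.FiniteType B T]
    [hsep : Algebra.IsSeparable (FractionRing B) (FractionRing T)] (h : J0 B) : J0 T := by
  obtain ⟨b, hb, hreg⟩ := h
  haveI : Algebra.FinitePresentation B T := Algebra.FinitePresentation.of_finiteType.mp ‹_›
  haveI : IsNoetherianRing T := Algebra.FiniteType.isNoetherianRing B T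
  haveI : Algebra.IsEtaleAt B (⊥ : Ideal T) := by
    haveI : IsFractionRing T (Localization.AtPrime (⊥ : Ideal T)) := by
      show IsLocalization _ _
      have : (⊥ : Ideal T).primeCompl = nonZeroDivisors T := by
        ext x; simp [Ideal.primeCompl, mem_nonZeroDivisors_iff_ne_zero]
      rw [← this]
      infer_instance
    haveI : Algebra.FormallyEtale B (FractionRing B) :=
      Algebra.FormallyEtale.of_isLocalization (nonZeroDivisors B)
    haveI : Algebra.FormallyEtale (FractionRing B) (FractionRing T) :=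
      Algebra.FormallyEtale.of_isSeparable _ _
    haveI : Algebra.FormallyEtale B (FractionRing T) :=
      Algebra.FormallyEtale.comp B (FractionRing B) (FractionRing T)
    exact Algebra.FormallyEtale.of_equiv
      ((FractionRing.algEquiv T (Localization.AtPrime (⊥ : Ideal T))).restrictScalars B)
  obtain ⟨f, hf, het⟩ := Algebra.exists_etale_of_isEtaleAt (R := B) (⊥ : Ideal T)
  have hb' : algebraMap B T b ≠ 0 := fun h0 =>
    hb ((FaithfulSMul.algebraMap_eq_zero_iff B T).mp h0)
  refine ⟨algebraMap B T b * f, mul_ne_zero hb' (fun h0 => hf (by simp [h0])), fun Q _ hQ => ?_⟩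
  haveI := het
  let Tf := Localization.Away f
  haveI : IsNoetherianRing Tf := IsLocalization.isNoetherianRing (Submonoid.powers f) _ ‹_›
  have hd : Disjoint (Submonoid.powers f : Set T) (Q : Set T) := by
    rw [Set.disjoint_left]
    rintro _ ⟨n, rfl⟩ hn
    exact hQ (Q.mul_mem_left _ (Ideal.IsPrime.mem_of_pow_mem ‹_› n hn))
  let Q' := Q.map (algebraMap T Tf)
  haveI : Q'.IsPrime := IsLocalization.isPrime_of_isPrime_disjoint (Submonoid.powers f) Tf Q ‹_› hd
  have hQ' : Q'.comap (algebraMap T Tf) = Q :=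
    IsLocalization.under_map_of_isPrime_disjoint (Submonoid.powers f) Tf ‹_› hd
  have hr : IsRegularLocalRing (Localization.AtPrime Q') := by
    refine regular_of_etale (A := B) Q' (hreg _ fun hbQ => hQ ?_)
    rw [Ideal.under_def, IsScalarTower.algebraMap_eq B T Tf, ← Ideal.comap_comap, hQ'] at hbQ
    exact Q.mul_mem_right _ hbQ
  rw [regular_iff_localization (Submonoid.powers f) Tf Q'] at hr
  have key : ∀ (I : Ideal T) [I.IsPrime], I = Q →
      IsRegularLocalRing (Localization.AtPrime I) → IsRegularLocalRing (Localization.AtPrime Q) := by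
    intro I _ hI h
    subst hI
    exact h
  exact key _ hQ' hr

theorem sep_of_generators {B T Ω : Type u} [CommRing B] [IsDomain B] [CommRing T] [IsDomain T]
    [Field Ω] [Algebra B T] [FaithfulSMul B T] [Algebra B Ω] [FaithfulSMul B Ω] (ι : T →ₐ[B] Ω)
    (hι : Function.Injective ι) (G : Set T) (hT : Algebra.adjoin B G = ⊤)
    (hG : ∀ g ∈ G, ∃ h : (FractionRing B)[X], h.Separable ∧
      Polynomial.eval₂ (IsFractionRing.lift (FaithfulSMul.algebraMap_injective B Ω)) (ι g) h = 0) :
    Algebra.IsSeparable (FractionRing B) (FractionRing T) := by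
  let j : FractionRing B →+* Ω := IsFractionRing.lift (FaithfulSMul.algebraMap_injective B Ω)
  let K := FractionRing B
  let L := FractionRing T
  let i : L →+* Ω := IsFractionRing.lift (A := T) (g := ι.toRingHom) hι
  have hi : ∀ t : T, i (algebraMap T L t) = ι t := fun t => IsFractionRing.lift_algebraMap _ t
  have hij : i.comp (algebraMap K L) = j := by
    refine IsLocalization.ringHom_ext (nonZeroDivisors B) (RingHom.ext fun b => ?_)
    simp only [RingHom.comp_apply]
    rw [← IsScalarTower.algebraMap_apply B K L, IsScalarTower.algebraMap_apply B T L, hi,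
      AlgHom.commutes, IsFractionRing.lift_algebraMap]
  have hgen : ∀ t : T, IsSeparable K (algebraMap T L t) := by
    intro t
    have ht : t ∈ Algebra.adjoin B G := hT.symm ▸ Algebra.mem_top
    induction ht using Algebra.adjoin_induction with
    | mem g hg =>
      obtain ⟨h, hsep, heval⟩ := hG g hg
      refine hsep.of_dvd (minpoly.dvd K _ (i.injective ?_))
      rw [map_zero, Polynomial.aeval_def, Polynomial.hom_eval₂, hij, hi]
      exact heval
    | algebraMap r =>
      rw [← IsScalarTower.algebraMap_apply B T L, IsScalarTower.algebraMap_apply B K L]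
      exact isSeparable_algebraMap _
    | add x y _ _ hx hy =>
      rw [map_add]
      exact Field.isSeparable_add hx hy
    | mul x y _ _ hx hy =>
      rw [map_mul]
      exact Field.isSeparable_mul hx hy
  constructor
  intro z
  obtain ⟨a, b, -, rfl⟩ := IsFractionRing.div_surjective T z
  rw [← mem_separableClosure_iff]
  exact div_mem (mem_separableClosure_iff.mpr (hgen a)) (mem_separableClosure_iff.mpr (hgen b))

theorem exists_root_mem {A Ω : Type u} [CommRing A] [Field Ω] [Algebra A Ω] {ι : Type u}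
    (φ : Ω →+* Ω) (u : ι → Ω) (P : MvPolynomial ι A) :
    ∃ C : Finset A, ∀ (D : Subring Ω), (∀ r ∈ C, φ (algebraMap A Ω r) ∈ D) → (∀ i, φ (u i) ∈ D) →
      φ (MvPolynomial.aeval u P) ∈ D := by
  classical
  refine ⟨P.support.image (fun d => P.coeff d), fun D hC hu => ?_⟩
  rw [MvPolynomial.aeval_def, MvPolynomial.eval₂_eq, map_sum]
  refine Subring.sum_mem _ fun d hd => ?_
  rw [map_mul, map_prod]
  refine Subring.mul_mem _ (hC _ (Finset.mem_image_of_mem _ hd)) (Subring.prod_mem _ fun i _ => ?_)
  rw [map_pow]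
  exact Subring.pow_mem _ (hu i) _

/-- Separable polynomials for the elements of `G` over the perfect closure of `A(u)`. -/
theorem exists_sep_polys {A Ω : Type u} [CommRing A] [IsDomain A] [Field Ω] [IsAlgClosed Ω]
    [Algebra A Ω] [FaithfulSMul A Ω] (q : ℕ) [ExpChar Ω q] {U : Type u} (u : U → Ω) (G : Finset Ω)
    (halg : ∀ g ∈ G, IsAlgebraic (Algebra.adjoin A (Set.range u)) g) :
    ∃ (e : ℕ) (S : Finset (MvPolynomial U A × MvPolynomial U A)), ∀ g ∈ G, ∃ h : Polynomial Ω,
      h.Separable ∧ h.eval g = 0 ∧ ∀ i, ∃ PQ ∈ S, MvPolynomial.aeval u PQ.2 ≠ 0 ∧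
        h.coeff i ^ q ^ e = MvPolynomial.aeval u PQ.1 / MvPolynomial.aeval u PQ.2 := by
  classical
  let F : Subfield Ω := Subfield.closure (Algebra.adjoin A (Set.range u) : Set Ω)
  haveI : ExpChar F q := RingHom.expChar F.subtype Subtype.val_injective q
  let P := perfectClosure F Ω
  have halgP : ∀ g ∈ G, IsAlgebraic P g := by
    intro g hg
    obtain ⟨p, hp, hp0⟩ := halg g hg
    let f : Algebra.adjoin A (Set.range u) →+* P :=
      (algebraMap F P).comp ((Subalgebra.val (Algebra.adjoin A (Set.range u))).toRingHom.codRestrict F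
        (fun x => Subfield.subset_closure x.2))
    refine ⟨p.map f, (Polynomial.map_ne_zero_iff ?_).mpr hp, ?_⟩
    · intro a b hab
      exact Subtype.ext (congrArg (fun z : P => (z : Ω)) hab)
    · rw [Polynomial.aeval_def, Polynomial.eval₂_map]
      exact hp0
  let coefs : Finset Ω := insert 0 (G.biUnion fun g => ((minpoly P g).map (algebraMap P Ω)).coeffs)
  have hcoefs : ∀ c ∈ coefs, ∃ n : ℕ, c ^ q ^ n ∈ F := by
    intro c hc
    rcases Finset.mem_insert.mp hc with rfl | hc
    · exact ⟨0, by simp⟩
    obtain ⟨g, -, hc⟩ := Finset.mem_biUnion.mp hc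
    obtain ⟨i, -, rfl⟩ := Polynomial.mem_coeffs_iff.mp hc
    obtain ⟨n, y, hy⟩ := (mem_perfectClosure_iff_pow_mem (F := F) q).mp ((minpoly P g).coeff i).2
    refine ⟨n, ?_⟩
    rw [Polynomial.coeff_map]
    exact hy ▸ y.2
  choose! nn hnn using hcoefs
  let e := coefs.sup nn
  have hfrac : ∀ c ∈ coefs, ∃ PQ : MvPolynomial U A × MvPolynomial U A,
      MvPolynomial.aeval u PQ.2 ≠ 0 ∧
      c ^ q ^ e = MvPolynomial.aeval u PQ.1 / MvPolynomial.aeval u PQ.2 := by
    intro c hc
    obtain ⟨k, hk⟩ := Nat.exists_eq_add_of_le (Finset.le_sup (f := nn) hc)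
    have hmem : c ^ q ^ e ∈ F := by
      show c ^ q ^ coefs.sup nn ∈ F
      rw [hk, pow_add, pow_mul]
      exact pow_mem (hnn c hc) _
    by_cases hc0 : c ^ q ^ e = 0
    · exact ⟨(0, 1), by simp, by simp [hc0]⟩
    obtain ⟨x, hx, y, hy, hxy⟩ := Subfield.mem_closure_iff.mp hmem
    have hcl : Subring.closure (Algebra.adjoin A (Set.range u) : Set Ω) ≤
        (Algebra.adjoin A (Set.range u)).toSubring := Subring.closure_le.mpr subset_rfl
    have hx' : x ∈ Algebra.adjoin A (Set.range u) := hcl hx
    have hy' : y ∈ Algebra.adjoin A (Set.range u) := hcl hy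
    rw [Algebra.adjoin_range_eq_range_aeval, AlgHom.mem_range] at hx' hy'
    obtain ⟨Px, rfl⟩ := hx'
    obtain ⟨Py, rfl⟩ := hy'
    exact ⟨(Px, Py), fun h0 => hc0 (by rw [← hxy, h0, div_zero]), hxy.symm⟩
  choose! PQ hPQ0 hPQ using hfrac
  refine ⟨e, coefs.image PQ, fun g hg => ⟨(minpoly P g).map (algebraMap P Ω), ?_, ?_, fun i => ?_⟩⟩
  · exact (PerfectField.separable_of_irreducible
      (minpoly.irreducible (halgP g hg).isIntegral)).map
  · rw [Polynomial.eval_map, ← Polynomial.aeval_def, minpoly.aeval]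
  · have hc : ((minpoly P g).map (algebraMap P Ω)).coeff i ∈ coefs := by
      by_cases h0 : ((minpoly P g).map (algebraMap P Ω)).coeff i = 0
      · rw [h0]; exact Finset.mem_insert_self _ _
      · exact Finset.mem_insert_of_mem (Finset.mem_biUnion.mpr
          ⟨g, hg, Polynomial.coeff_mem_coeffs h0⟩)
    exact ⟨PQ _, Finset.mem_image_of_mem _ hc, hPQ0 _ hc, hPQ _ hc⟩

/-- A polynomial ring over a finite extension contains prescribed roots. -/
theorem exists_j0_subalgebra {A Ω : Type u} [CommRing A] [IsDomain A] [IsNoetherianRing A]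
    [Field Ω] [PerfectField Ω] [Algebra A Ω] [FaithfulSMul A Ω]
    (H : ∀ (A' : Type u) [CommRing A'] [IsDomain A'] [Algebra A A'], Module.Finite A A' → J0 A')
    (q : ℕ) [ExpChar Ω q] (e : ℕ) {U : Type u} [Finite U] (u : U → Ω)
    (hu : AlgebraicIndependent A u) (S : Finset (MvPolynomial U A)) :
    ∃ B : Subalgebra A Ω, Algebra.FiniteType A B ∧ J0 B ∧
      ∀ P ∈ S, (iterateFrobeniusEquiv Ω q e).symm (MvPolynomial.aeval u P) ∈ B := by
  classical
  haveI : ExpChar A q := RingHom.expChar (algebraMap A Ω) (FaithfulSMul.algebraMap_injective A Ω) q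
  let φ : Ω →+* Ω := (iterateFrobeniusEquiv Ω q e).symm.toRingHom
  have hφ : ∀ x : Ω, φ x ^ q ^ e = x := fun x => (iterateFrobeniusEquiv Ω q e).apply_symm_apply x
  choose C1 hC1 using fun P : MvPolynomial U A => exists_root_mem φ u P
  let C : Finset A := S.biUnion C1
  let roots : Set Ω := (fun r => φ (algebraMap A Ω r)) '' (C : Set A)
  let A' := Algebra.adjoin A roots
  haveI hA'fin : Module.Finite A A' := by
    refine Module.Finite.iff_fg.mpr (fg_adjoin_of_finite (C.finite_toSet.image _) ?_)
    rintro _ ⟨r, -, rfl⟩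
    refine ⟨Polynomial.X ^ q ^ e - Polynomial.C r,
      Polynomial.monic_X_pow_sub_C _ (pow_ne_zero _ (expChar_pos Ω q).ne'), ?_⟩
    simp [hφ]
  let σ : U → Ω := fun i => φ (u i)
  have hs : AlgebraicIndependent A σ := by
    rw [algebraicIndependent_iff]
    intro p hp
    have h1 := congrArg (iterateFrobenius Ω q e) hp
    rw [map_zero, MvPolynomial.aeval_def, MvPolynomial.eval₂_comp_left] at h1
    have hcomp : (iterateFrobenius Ω q e).comp (algebraMap A Ω) =
        (algebraMap A Ω).comp (iterateFrobenius A q e) :=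
      RingHom.ext fun a => by simp [iterateFrobenius_def]
    have hfun : (iterateFrobenius Ω q e) ∘ σ = u :=
      funext fun i => by simp [σ, iterateFrobenius_def, hφ]
    rw [hcomp, hfun, ← MvPolynomial.eval₂_map, ← MvPolynomial.aeval_def] at h1
    have h2 := hu.eq_zero_of_aeval_eq_zero _ h1
    exact MvPolynomial.map_injective _ (iterateFrobenius_inj A q e) (by rw [h2, map_zero])
  haveI : Algebra.IsIntegral A A' := Algebra.IsIntegral.of_finite A A'
  have hs' : AlgebraicIndependent A' σ := AlgebraicIndependent.extendScalars_of_isIntegral A' hs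
  haveI : IsNoetherianRing A' := IsNoetherianRing.of_finite A A'
  let B₁ := Algebra.adjoin A' (Set.range σ)
  have hB₁ : J0 B₁ := J0.of_ringEquiv hs'.aevalEquiv.toRingEquiv (J0.mvPolynomial U (H A' hA'fin))
  refine ⟨B₁.restrictScalars A, ?_, ?_, fun P hP => ?_⟩
  · haveI : Algebra.FiniteType A A' := inferInstance
    haveI : Algebra.FiniteType A' B₁ :=
      (Subalgebra.fg_iff_finiteType _).mp ⟨(Set.finite_range σ).toFinset, by simp [B₁]⟩
    exact Algebra.FiniteType.trans (R := A) (S := A') (A := B₁) inferInstance inferInstance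
  · exact hB₁
  · exact hC1 P B₁.toSubring (fun r hr => B₁.algebraMap_mem
      (⟨_, Algebra.subset_adjoin ⟨r, Finset.mem_biUnion.mpr ⟨P, hP, hr⟩, rfl⟩⟩ : A'))
      (fun i => Algebra.subset_adjoin ⟨i, rfl⟩)

/-- Descend J-0 from a separable extension. -/
theorem J0.descend {A B T Ω : Type u} [CommRing A] [IsNoetherianRing A] [CommRing B] [IsDomain B]
    [CommRing T] [IsDomain T] [Field Ω] [Algebra A B] [Algebra A T] [Algebra A Ω] [Algebra B Ω]
    [Algebra T Ω] [IsScalarTower A B Ω] [IsScalarTower A T Ω] [FaithfulSMul B Ω]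
    [Algebra.FiniteType A B] [Algebra.FiniteType A T]
    (hTΩ : Function.Injective (algebraMap T Ω)) (hB : J0 B) (G : Finset T)
    (hG : Algebra.adjoin A (G : Set T) = ⊤)
    (hsep : ∀ g ∈ G, ∃ h : (FractionRing B)[X], h.Separable ∧
      Polynomial.eval₂ (IsFractionRing.lift (FaithfulSMul.algebraMap_injective B Ω))
        (algebraMap T Ω g) h = 0) : J0 T := by
  classical
  haveI : IsNoetherianRing B := Algebra.FiniteType.isNoetherianRing A B
  let GΩ : Set Ω := algebraMap T Ω '' (G : Set T)
  let T' := Algebra.adjoin B GΩ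
  haveI : Algebra.FiniteType B T' :=
    (Subalgebra.fg_iff_finiteType _).mp
      ⟨(G.finite_toSet.image (algebraMap T Ω)).toFinset, by simp [T', GΩ]⟩
  haveI : FaithfulSMul B T' := (faithfulSMul_iff_algebraMap_injective B T').mpr fun a b hab =>
    FaithfulSMul.algebraMap_injective B Ω (congrArg Subtype.val hab :)
  haveI : Algebra.IsSeparable (FractionRing B) (FractionRing T') := by
    refine sep_of_generators T'.val Subtype.val_injective (T'.val ⁻¹' GΩ) ?_ ?_
    · exact Algebra.adjoin_adjoin_coe_preimage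
    rintro ⟨_, _⟩ ⟨g, hg, rfl⟩
    exact hsep g hg
  have hT' : J0 T' := J0.of_separable (B := B) (T := T') hB
  have hmem : ∀ t : T, algebraMap T Ω t ∈ T' := by
    intro t
    have : t ∈ Algebra.adjoin A (G : Set T) := hG.symm ▸ Algebra.mem_top
    induction this using Algebra.adjoin_induction with
    | mem g hg => exact Algebra.subset_adjoin ⟨g, hg, rfl⟩
    | algebraMap a =>
      rw [← IsScalarTower.algebraMap_apply, IsScalarTower.algebraMap_apply A B Ω]
      exact T'.algebraMap_mem _
    | add x y _ _ hx hy => rw [map_add]; exact add_mem hx hy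
    | mul x y _ _ hx hy => rw [map_mul]; exact mul_mem hx hy
  haveI hAT : Algebra.FiniteType A T' :=
    Algebra.FiniteType.trans (S := B) inferInstance inferInstance
  let ψ : T →+* T' := (algebraMap T Ω).codRestrict T' hmem
  letI : Algebra T T' := ψ.toAlgebra
  haveI : IsScalarTower A T T' := IsScalarTower.of_algebraMap_eq fun a =>
    Subtype.ext (IsScalarTower.algebraMap_apply A T Ω a :)
  haveI : Algebra.FiniteType T T' := Algebra.FiniteType.of_restrictScalars_finiteType A T T'
  haveI : IsNoetherianRing T := Algebra.FiniteType.isNoetherianRing A T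
  exact j0_iff.mpr (Groth.Agent.S9255.result T T'
    (fun a b hab => hTΩ (congrArg Subtype.val hab)) (j0_iff.mp hT'))

/-- If all finite domains over a Noetherian domain `A` are J-0, then so is every domain of finite
type containing `A`. -/
theorem J0.of_finiteType_domain {A : Type u} [CommRing A] [IsDomain A] [IsNoetherianRing A]
    (H : ∀ (A' : Type u) [CommRing A'] [IsDomain A'] [Algebra A A'], Module.Finite A A' → J0 A')
    (T : Type u) [CommRing T] [IsDomain T] [Algebra A T] [FaithfulSMul A T]
    [Algebra.FiniteType A T] : J0 T := by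
  classical
  let Ω := AlgebraicClosure (FractionRing T)
  have hTΩ : Function.Injective (algebraMap T Ω) := fun a b hab =>
    IsFractionRing.injective T (FractionRing T) ((algebraMap (FractionRing T) Ω).injective (by
      rwa [← IsScalarTower.algebraMap_apply, ← IsScalarTower.algebraMap_apply]))
  haveI : FaithfulSMul A Ω := (faithfulSMul_iff_algebraMap_injective A Ω).mpr fun a b hab =>
    FaithfulSMul.algebraMap_injective A T (hTΩ (by
      rwa [← IsScalarTower.algebraMap_apply, ← IsScalarTower.algebraMap_apply]))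
  obtain ⟨G, hG⟩ := (‹Algebra.FiniteType A T›).out
  haveI : Algebra.IsAlgebraic (Algebra.adjoin A (G : Set T)) T :=
    ⟨fun t => isAlgebraic_algebraMap (⟨t, hG.symm ▸ Algebra.mem_top⟩ : Algebra.adjoin A (G : Set T))⟩
  obtain ⟨U, hUG, hU⟩ := exists_isTranscendenceBasis_subset (R := A) (G : Set T)
  haveI : Finite U := Finite.Set.subset (G : Set T) hUG
  let u : U → Ω := fun i => algebraMap T Ω i.1
  have hu : AlgebraicIndependent A u :=
    hU.1.map' (f := IsScalarTower.toAlgHom A T Ω) hTΩ
  have halgG : ∀ x ∈ G.image (algebraMap T Ω), IsAlgebraic (Algebra.adjoin A (Set.range u)) x := by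
    intro x hx
    obtain ⟨g, -, rfl⟩ := Finset.mem_image.mp hx
    obtain ⟨p, hp, hp0⟩ := hU.isAlgebraic.isAlgebraic g
    let f : Algebra.adjoin A (Set.range (Subtype.val : U → T)) →ₐ[A]
        Algebra.adjoin A (Set.range u) :=
      ((IsScalarTower.toAlgHom A T Ω).comp (Subalgebra.val _)).codRestrict _ (fun x => by
        have : Algebra.adjoin A (Set.range u) = (Algebra.adjoin A (Set.range (Subtype.val : U → T))).map
            (IsScalarTower.toAlgHom A T Ω) := by
          rw [AlgHom.map_adjoin, ← Set.range_comp]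
          rfl
        rw [this]
        exact Subalgebra.mem_map.mpr ⟨x.1, x.2, rfl⟩)
    refine ⟨p.map f.toRingHom, (Polynomial.map_ne_zero_iff ?_).mpr hp, ?_⟩
    · intro a b hab
      exact Subtype.ext (hTΩ (congrArg Subtype.val hab))
    · rw [Polynomial.aeval_def, Polynomial.eval₂_map]
      have h2 := congrArg (algebraMap T Ω) hp0
      rw [map_zero, Polynomial.aeval_def, Polynomial.hom_eval₂] at h2
      exact h2
  obtain ⟨q, _⟩ : ∃ q, ExpChar Ω q := ExpChar.exists Ω
  obtain ⟨e, S, hS⟩ := exists_sep_polys q u (G.image (algebraMap T Ω)) halgG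
  obtain ⟨B, hBft, hB, hBmem⟩ := exists_j0_subalgebra H q e u hu (S.image Prod.fst ∪ S.image Prod.snd)
  haveI := hBft
  haveI : FaithfulSMul B Ω := (faithfulSMul_iff_algebraMap_injective B Ω).mpr Subtype.val_injective
  refine J0.descend (A := A) (B := B) hTΩ hB G hG fun g hg => ?_
  obtain ⟨h, hsep, heval, hcoeff⟩ := hS _ (Finset.mem_image_of_mem _ hg)
  let j : FractionRing B →+* Ω := IsFractionRing.lift (FaithfulSMul.algebraMap_injective B Ω)
  have hlift : h ∈ Polynomial.lifts j := by
    rw [Polynomial.lifts_iff_coeff_lifts]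
    intro i
    obtain ⟨PQ, hPQ, -, hc⟩ := hcoeff i
    have h1 := hBmem PQ.1 (Finset.mem_union_left _ (Finset.mem_image_of_mem _ hPQ))
    have h2 := hBmem PQ.2 (Finset.mem_union_right _ (Finset.mem_image_of_mem _ hPQ))
    refine ⟨algebraMap B (FractionRing B) ⟨_, h1⟩ / algebraMap B (FractionRing B) ⟨_, h2⟩, ?_⟩
    rw [map_div₀, IsFractionRing.lift_algebraMap, IsFractionRing.lift_algebraMap]
    show (iterateFrobeniusEquiv Ω q e).symm _ / (iterateFrobeniusEquiv Ω q e).symm _ = _
    rw [← map_div₀, ← hc]
    exact (iterateFrobeniusEquiv Ω q e).symm_apply_apply _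
  obtain ⟨h', hh'⟩ := (Polynomial.mem_lifts _).mp hlift
  refine ⟨h', (Polynomial.separable_map j).mp (by rw [hh']; exact hsep), ?_⟩
  show Polynomial.eval₂ j _ h' = 0
  rw [← Polynomial.eval_map, hh']
  exact heval

end Groth.Agent.RegLoc6
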