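import Groth.Agent.RegLoc6.Normal
import Groth.Agent.Alg6.AssDepth

/-!
Openness of the normal locus.
-/

universe u v

namespace Groth.Agent.RegLoc6

open IsLocalRing

variable {A : Type u} [CommRing A]

theorem mem_range_atPrime_iff [IsDomain A] (q : Ideal A) [q.IsPrime] {K : Type v} [CommRing K]
    [Algebra A K] [Algebra (Localization.AtPrime q) K] [IsScalarTower A (Localization.AtPrime q) K]
    (z : K) :
    (∃ y : Localization.AtPrime q, algebraMap _ K y = z) ↔
      ∃ s ∉ q, ∃ a : A, algebraMap A K a = algebraMap A K s * z := by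
  constructor
  · rintro ⟨y, rfl⟩
    obtain ⟨a, s, rfl⟩ := IsLocalization.exists_mk'_eq q.primeCompl y
    refine ⟨s, s.2, a, ?_⟩
    rw [IsScalarTower.algebraMap_apply A (Localization.AtPrime q) K,
      IsScalarTower.algebraMap_apply A (Localization.AtPrime q) K s, ← map_mul,
      IsLocalization.mk'_spec']
  · rintro ⟨s, hs, a, ha⟩
    have hs' : s ∈ q.primeCompl := hs
    refine ⟨IsLocalization.mk' _ a (⟨s, hs'⟩ : q.primeCompl), ?_⟩
    have hu : IsUnit (algebraMap A K s) := by
      rw [IsScalarTower.algebraMap_apply A (Localization.AtPrime q) K]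
      exact (IsLocalization.map_units _ (⟨s, hs'⟩ : q.primeCompl)).map _
    refine hu.mul_left_cancel ?_
    rw [← ha, IsScalarTower.algebraMap_apply A (Localization.AtPrime q) K,
      IsScalarTower.algebraMap_apply A (Localization.AtPrime q) K a, ← map_mul]
    exact congrArg _ (IsLocalization.mk'_spec' _ a (⟨s, hs'⟩ : q.primeCompl))

/-- Criterion for normality at `p`, given normality outside `V(g)`. -/
theorem isIntegrallyClosed_atPrime [IsDomain A] [IsNoetherianRing A] {g : A} (hg0 : g ≠ 0)
    (hg : ∀ (Q : Ideal A) [Q.IsPrime], g ∉ Q → IsIntegrallyClosed (Localization.AtPrime Q))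
    (p : Ideal A) [p.IsPrime]
    (hq : ∀ (q : Ideal A) [q.IsPrime], q ∈ associatedPrimes A (A ⧸ Ideal.span {g}) → q ≤ p →
      IsIntegrallyClosed (Localization.AtPrime q)) :
    IsIntegrallyClosed (Localization.AtPrime p) := by
  let K := FractionRing A
  -- membership of an integral element in the local ring at a normal prime
  have hnormal : ∀ (Q : Ideal A) [Q.IsPrime], IsIntegrallyClosed (Localization.AtPrime Q) →
      ∀ w : K, IsIntegral A w → ∃ s ∉ Q, ∃ a : A, algebraMap A K a = algebraMap A K s * w := by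
    intro Q _ hQ w hw
    letI : Algebra (Localization.AtPrime Q) K :=
      IsLocalization.localizationAlgebraOfSubmonoidLe (Localization.AtPrime Q) K
        Q.primeCompl (nonZeroDivisors A) Q.primeCompl_le_nonZeroDivisors
    haveI : IsScalarTower A (Localization.AtPrime Q) K :=
      IsLocalization.localization_isScalarTower_of_submonoid_le _ _ _ _
        Q.primeCompl_le_nonZeroDivisors
    haveI : IsFractionRing (Localization.AtPrime Q) K :=
      IsFractionRing.isFractionRing_of_isDomain_of_isLocalization Q.primeCompl _ _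
    exact (mem_range_atPrime_iff Q w).mp
      ((isIntegrallyClosed_iff K).mp hQ (hw.tower_top (A := Localization.AtPrime Q)))
  letI : Algebra (Localization.AtPrime p) K :=
    IsLocalization.localizationAlgebraOfSubmonoidLe (Localization.AtPrime p) K
      p.primeCompl (nonZeroDivisors A) p.primeCompl_le_nonZeroDivisors
  haveI : IsScalarTower A (Localization.AtPrime p) K :=
    IsLocalization.localization_isScalarTower_of_submonoid_le _ _ _ _
      p.primeCompl_le_nonZeroDivisors
  haveI : IsFractionRing (Localization.AtPrime p) K :=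
    IsFractionRing.isFractionRing_of_isDomain_of_isLocalization p.primeCompl _ _
  rw [isIntegrallyClosed_iff K]
  intro z hz
  obtain ⟨⟨m, hm⟩, hw⟩ := IsIntegral.exists_multiple_integral_of_isLocalization p.primeCompl z hz
  rw [mem_range_atPrime_iff p]
  suffices key : ∀ w : K, IsIntegral A w → ∃ s ∉ p, ∃ a : A,
      algebraMap A K a = algebraMap A K s * w by
    obtain ⟨s, hs, a, ha⟩ := key _ hw
    refine ⟨s * m, fun h => (Ideal.IsPrime.mem_or_mem ‹_› h).elim hs hm, a, ?_⟩
    rw [ha, Submonoid.smul_def, Algebra.smul_def, map_mul, mul_assoc]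
  have step : ∀ k : ℕ, ∀ w : K, IsIntegral A w →
      (∃ a : A, algebraMap A K a = algebraMap A K (g ^ k) * w) →
      ∃ s ∉ p, ∃ a : A, algebraMap A K a = algebraMap A K s * w := by
    intro k
    induction k with
    | zero =>
      rintro w - ⟨a, ha⟩
      exact ⟨g ^ 0, by simpa using (Ideal.ne_top_iff_one p).mp Ideal.IsPrime.ne_top', a, ha⟩
    | succ k ih =>
      rintro w hw ⟨a, ha⟩
      let w' := algebraMap A K (g ^ k) * w
      have hw' : algebraMap A K g * w' = algebraMap A K a := by
        rw [ha, pow_succ, map_mul]; ring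
      have hw'i : IsIntegral A w' := IsIntegral.mul isIntegral_algebraMap hw
      obtain ⟨t, ht, c, hc⟩ : ∃ t ∉ p, ∃ c : A, t * a = g * c := by
        by_contra! hno
        let M := A ⧸ Ideal.span {g}
        have hne : LocalizedModule.mk (Ideal.Quotient.mk (Ideal.span {g}) a : M) (1 : p.primeCompl) ≠ 0 := by
          rw [← LocalizedModule.zero_mk (1 : p.primeCompl), Ne, LocalizedModule.mk_eq]
          rintro ⟨⟨t, ht⟩, h⟩
          simp only [one_smul, smul_zero, Submonoid.smul_def] at h
          rw [Algebra.smul_def, Ideal.Quotient.algebraMap_eq, ← map_mul,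
            Ideal.Quotient.eq_zero_iff_mem, Ideal.mem_span_singleton] at h
          obtain ⟨c, hc⟩ := h
          exact hno t ht c hc
        obtain ⟨P, hP, hann⟩ := Alg6.exists_ass_ge (R := Localization.AtPrime p) hne
        have hpre : P ∈ Ideal.comap (algebraMap A (Localization.AtPrime p)) ⁻¹' associatedPrimes A M := by
          rw [Module.associatedPrimes.preimage_comap_associatedPrimes_eq_associatedPrimes_of_isLocalizedModule
            p.primeCompl (Localization.AtPrime p) (LocalizedModule.mkLinearMap p.primeCompl M)]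
          exact hP
        let q := P.comap (algebraMap A (Localization.AtPrime p))
        haveI : P.IsPrime := IsAssociatedPrime.isPrime (AssociatedPrimes.mem_iff.mp hP)
        haveI : q.IsPrime := Ideal.IsPrime.comap _
        have hqp : q ≤ p := by
          intro y hy
          have hmax : algebraMap A (Localization.AtPrime p) y ∈ maximalIdeal (Localization.AtPrime p) :=
            IsLocalRing.le_maximalIdeal (Ideal.IsPrime.ne_top' (I := P)) hy
          exact (IsLocalization.AtPrime.to_map_mem_maximal_iff _ p y).mp hmax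
        obtain ⟨s, hs, b, hb⟩ := hnormal q (hq q hpre hqp) w' hw'i
        refine hs (hann _ ?_)
        rw [algebraMap_smul, LocalizedModule.smul'_mk, Algebra.smul_def,
          Ideal.Quotient.algebraMap_eq, ← map_mul]
        have hsa : s * a = g * b := by
          apply FaithfulSMul.algebraMap_injective A K
          rw [map_mul, map_mul, hb, ← hw']; ring
        rw [hsa, Ideal.Quotient.eq_zero_iff_mem.mpr (Ideal.mul_mem_right _ _
          (Ideal.mem_span_singleton_self g)), LocalizedModule.zero_mk]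
      have hg' : algebraMap A K g ≠ 0 := fun h =>
        hg0 ((FaithfulSMul.algebraMap_eq_zero_iff A K).mp h)
      obtain ⟨s, hs, b, hb⟩ := ih (algebraMap A K t * w)
        (IsIntegral.mul isIntegral_algebraMap hw) ⟨c, mul_left_cancel₀ hg' (by
          rw [← map_mul, ← hc, map_mul, ← hw']; ring)⟩
      exact ⟨s * t, fun h => (Ideal.IsPrime.mem_or_mem ‹_› h).elim hs ht, b, by
        rw [hb, map_mul, mul_assoc]⟩
  intro w hw
  let D : Ideal A :=
    { carrier := {s | ∃ a, algebraMap A K a = algebraMap A K s * w}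
      zero_mem' := ⟨0, by simp⟩
      add_mem' := fun {s t} ⟨a, ha⟩ ⟨b, hb⟩ => ⟨a + b, by rw [map_add, map_add, add_mul, ha, hb]⟩
      smul_mem' := fun c s ⟨a, ha⟩ => ⟨c * a, by rw [smul_eq_mul, map_mul, map_mul, ha, mul_assoc]⟩ }
  have hrad : g ∈ D.radical := by
    rw [Ideal.radical_eq_sInf, Submodule.mem_sInf]
    rintro (Q : Ideal A) ⟨hDQ, hQ⟩
    by_contra hgQ
    haveI := hQ
    obtain ⟨s, hs, a, ha⟩ := hnormal Q (hg Q hgQ) w hw
    exact hs (hDQ ⟨a, ha⟩)
  obtain ⟨k, hk⟩ := hrad
  exact step k w hw hk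

/-- Normality of the local ring at a prime. -/
def NormalAt (A : Type u) [CommRing A] (p : Ideal A) [p.IsPrime] : Prop :=
  IsDomain (Localization.AtPrime p) ∧ IsIntegrallyClosed (Localization.AtPrime p)

theorem normalAt_of_ringEquiv {B : Type u} [CommRing B] {p : Ideal A} [p.IsPrime] {q : Ideal B}
    [q.IsPrime] (e : Localization.AtPrime p ≃+* Localization.AtPrime q) (h : NormalAt A p) :
    NormalAt B q :=
  haveI := h.1
  haveI := h.2
  ⟨(MulEquiv.isDomain (A := Localization.AtPrime q) (B := Localization.AtPrime p) e.symm.toMulEquiv),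
    IsIntegrallyClosed.of_equiv e⟩

theorem normalAt_of_le [IsNoetherianRing A] {p q : Ideal A} [p.IsPrime] [q.IsPrime] (hpq : p ≤ q)
    (h : NormalAt A q) : NormalAt A p := by
  haveI := h.1
  haveI := h.2
  have hd : Disjoint (q.primeCompl : Set A) (p : Set A) :=
    Set.disjoint_left.mpr fun a ha hap => ha (hpq hap)
  let P := p.map (algebraMap A (Localization.AtPrime q))
  haveI : P.IsPrime := IsLocalization.isPrime_of_isPrime_disjoint q.primeCompl _ p ‹_› hd
  haveI : IsLocalization.AtPrime (Localization.AtPrime P) p := by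
    convert IsLocalization.isLocalization_isLocalization_atPrime_isLocalization q.primeCompl
      (Localization.AtPrime P) P
    exact (IsLocalization.under_map_of_isPrime_disjoint q.primeCompl _ ‹_› hd).symm
  haveI : IsDomain (Localization.AtPrime P) :=
    IsLocalization.isDomain_localization P.primeCompl_le_nonZeroDivisors
  haveI : IsIntegrallyClosed (Localization.AtPrime P) :=
    isIntegrallyClosed_of_isLocalization _ P.primeCompl P.primeCompl_le_nonZeroDivisors
  let e : Localization.AtPrime P ≃+* Localization.AtPrime p :=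
    (IsLocalization.algEquiv p.primeCompl (Localization.AtPrime P) (Localization.AtPrime p)).toRingEquiv
  exact ⟨MulEquiv.isDomain (A := Localization.AtPrime p) (B := Localization.AtPrime P) e.symm.toMulEquiv,
    IsIntegrallyClosed.of_equiv e⟩

/-- The normal locus is open as soon as it contains a neighbourhood of each of its minimal primes. -/
theorem isOpen_normal [IsNoetherianRing A]
    (H : ∀ q : PrimeSpectrum A, q.asIdeal ∈ minimalPrimes A → NormalAt A q.asIdeal →
      ∃ g ∉ q.asIdeal, ∀ y : PrimeSpectrum A, g ∉ y.asIdeal → NormalAt A y.asIdeal) :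
    IsOpen {p : PrimeSpectrum A | NormalAt A p.asIdeal} := by
  classical
  refine isOpen_of_forall_generic _ (fun x y hxy hy => normalAt_of_le hxy hy) fun x hx => ?_
  haveI := hx.1
  -- the minimal prime under `x` dies in the local ring
  obtain ⟨q, hq, hqx⟩ := Ideal.exists_minimalPrimes_le (bot_le : (⊥ : Ideal A) ≤ x.asIdeal)
  haveI hqp : q.IsPrime := hq.1.1
  have hq0 : q.map (algebraMap A (Localization.AtPrime x.asIdeal)) = ⊥ := by
    rw [Ideal.map_eq_bot_iff_le_ker]
    exact hq.2 ⟨RingHom.ker_isPrime _, bot_le⟩ (fun a ha => by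
      obtain ⟨⟨t, ht⟩, h⟩ := (IsLocalization.map_eq_zero_iff x.asIdeal.primeCompl _ a).mp ha
      exact (hqp.mem_or_mem (h ▸ q.zero_mem : t * a ∈ q)).resolve_left fun htq => ht (hqx htq))
  obtain ⟨g, hg, hgN⟩ := H ⟨q, hqp⟩ hq (normalAt_of_le hqx hx)
  -- kill `q` near `x`
  obtain ⟨s, hs⟩ := q.fg_of_isNoetherianRing
  have hex : ∀ a ∈ s, ∃ t ∉ x.asIdeal, t * a = 0 := by
    intro a ha
    have : algebraMap A (Localization.AtPrime x.asIdeal) a = 0 :=
      (Submodule.eq_bot_iff _).mp hq0 _ (Ideal.mem_map_of_mem _ (hs ▸ Submodule.subset_span ha))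
    obtain ⟨⟨t, ht⟩, h⟩ := (IsLocalization.map_eq_zero_iff x.asIdeal.primeCompl _ _).mp this
    exact ⟨t, ht, h⟩
  choose! t ht1 ht2 using hex
  let f₀ := ∏ a ∈ s, t a
  have hf₀ : f₀ ∉ x.asIdeal :=
    show _ ∈ x.asIdeal.primeCompl from prod_mem fun a ha => ht1 a ha
  have hequiv : ∀ (y : Ideal A) [y.IsPrime] (y' : Ideal (A ⧸ q)) [y'.IsPrime],
      y'.comap (Ideal.Quotient.mk q) = y → f₀ ∉ y →
      Nonempty (Localization.AtPrime y ≃+* Localization.AtPrime y') := by
    intro y _ y' _ hy hfy
    obtain ⟨e⟩ := exists_quotLocalEquiv q y y' hy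
    have hy0 : q.map (algebraMap A (Localization.AtPrime y)) = ⊥ := by
      rw [← hs, Ideal.map_span, Submodule.span_eq_bot]
      rintro _ ⟨a, ha, rfl⟩
      refine (IsLocalization.map_eq_zero_iff y.primeCompl _ _).mpr ⟨⟨_, hfy⟩, ?_⟩
      obtain ⟨c, hc⟩ := Finset.dvd_prod_of_mem t ha
      show (∏ b ∈ s, t b) * a = 0
      rw [hc, mul_comm (t a), mul_assoc, ht2 a ha, mul_zero]
    exact ⟨((RingEquiv.quotientBot _).symm.trans (Ideal.quotEquivOfEq hy0.symm)).trans e⟩
  let g' := Ideal.Quotient.mk q (g * f₀)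
  have hg'0 : g' ≠ 0 := fun h => by
    rw [Ideal.Quotient.eq_zero_iff_mem] at h
    exact (hqp.mem_or_mem h).elim hg fun h => hf₀ (hqx h)
  have hgen : ∀ (Q : Ideal (A ⧸ q)) [Q.IsPrime], g' ∉ Q →
      IsIntegrallyClosed (Localization.AtPrime Q) := by
    intro Q _ hQ
    obtain ⟨e⟩ := hequiv (Q.comap (Ideal.Quotient.mk q)) Q rfl
      fun h => hQ (by show Ideal.Quotient.mk q (g * f₀) ∈ Q; rw [map_mul]; exact Q.mul_mem_left _ h)
    exact (normalAt_of_ringEquiv e (hgN ⟨_, Ideal.IsPrime.comap _⟩ fun h => hQ (by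
      show Ideal.Quotient.mk q (g * f₀) ∈ Q; rw [map_mul]; exact Q.mul_mem_right _ h))).2
  let Bad : Set (Ideal (A ⧸ q)) :=
    {r | r ∈ associatedPrimes (A ⧸ q) ((A ⧸ q) ⧸ Ideal.span {g'}) ∧
      ∃ h : r.IsPrime, ¬ IsIntegrallyClosed (Localization.AtPrime r)}
  have hBfin : Bad.Finite := (associatedPrimes.finite _ _).subset fun r hr => hr.1
  obtain ⟨x', hx'⟩ : ∃ x' : PrimeSpectrum (A ⧸ q),
      x'.asIdeal.comap (Ideal.Quotient.mk q) = x.asIdeal := by
    haveI := Ideal.map_isPrime_of_surjective (f := Ideal.Quotient.mk q) (I := x.asIdeal)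
      Ideal.Quotient.mk_surjective (by rw [Ideal.mk_ker]; exact hqx)
    refine ⟨⟨_, this⟩, ?_⟩
    show (x.asIdeal.map _).comap _ = _
    rw [Ideal.comap_map_of_surjective _ Ideal.Quotient.mk_surjective, ← RingHom.ker_eq_comap_bot,
      Ideal.mk_ker, sup_eq_left.mpr hqx]
  have hxbad : ∀ r ∈ Bad, ∃ a ∈ r, a ∉ x'.asIdeal := by
    rintro r ⟨-, hr, hbad⟩
    by_contra! hle
    obtain ⟨e⟩ := hequiv x.asIdeal x'.asIdeal hx' hf₀
    exact hbad (normalAt_of_le hle (normalAt_of_ringEquiv e hx)).2
  choose! a ha1 ha2 using hxbad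
  obtain ⟨f₁, hf₁⟩ := Ideal.Quotient.mk_surjective (∏ r ∈ hBfin.toFinset, a r)
  have hf₁x : f₁ ∉ x.asIdeal := by
    rw [← hx', Ideal.mem_comap, hf₁]
    exact show _ ∈ x'.asIdeal.primeCompl from
      prod_mem fun r hr => ha2 r (hBfin.mem_toFinset.mp hr)
  refine ⟨f₀ * f₁, fun h => (x.isPrime.mem_or_mem h).elim hf₀ hf₁x, fun y hxy hy => ?_⟩
  have hqy : q ≤ y.asIdeal := hqx.trans hxy
  haveI := Ideal.map_isPrime_of_surjective (f := Ideal.Quotient.mk q) (I := y.asIdeal)
    Ideal.Quotient.mk_surjective (by rw [Ideal.mk_ker]; exact hqy)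
  have hy' : (y.asIdeal.map (Ideal.Quotient.mk q)).comap (Ideal.Quotient.mk q) = y.asIdeal := by
    rw [Ideal.comap_map_of_surjective _ Ideal.Quotient.mk_surjective, ← RingHom.ker_eq_comap_bot,
      Ideal.mk_ker, sup_eq_left.mpr hqy]
  obtain ⟨e⟩ := hequiv y.asIdeal _ hy' fun h => hy (y.asIdeal.mul_mem_right _ h)
  refine normalAt_of_ringEquiv e.symm ⟨IsLocalization.isDomain_localization
    (Ideal.primeCompl_le_nonZeroDivisors _), isIntegrallyClosed_atPrime hg'0 hgen _ fun r _ hr hle => ?_⟩
  by_contra hbad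
  refine hy (y.asIdeal.mul_mem_left _ ?_)
  rw [← hy', Ideal.mem_comap, hf₁]
  exact hle (Ideal.prod_mem _ (hBfin.mem_toFinset.mpr ⟨hr, ‹_›, hbad⟩) (ha1 r ⟨hr, ‹_›, hbad⟩))

end Groth.Agent.RegLoc6
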